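import Cfsg.Agent.Characters.Core
import Cfsg.Prelude.Def_DegreeGraph

/-!
# S4899, at least eight character degrees: interface (helper664)

* `Eight S` : `8 ≤ (charDegrees S).ncard`;
* `eight_of_list` : eight different degrees; `eight_of_inj` : an injective function on `Fin 8`;
* `eight_of_chain` : a strictly increasing list of degrees;
* `eight_of_clauses` : seven pairwise disjoint predicates, each satisfied by a degree different from `1`;
* `ncard_eq_of_list` : the exact number from a complete list.
-/

set_option autoImplicit false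
set_option linter.unusedSectionVars false

open Cfsg

namespace Cfsg.Agent.H664.Eight

universe u v

/-- At least eight character degrees. -/
def Eight (S : Type u) [Group S] : Prop := 8 ≤ (charDegrees S).ncard

theorem charDegrees_subset {G : Type u} {H : Type v} [Group G] [Group H] (e : G ≃* H) :
    charDegrees H ⊆ charDegrees G := by
  intro d hd
  obtain ⟨χ, hχ⟩ := hd
  refine ⟨⟨(χ : H → ℂ) ∘ e.toMonoidHom, Characters.Core.isIrr_comp e.toMonoidHom e.surjective χ.2⟩, ?_⟩
  rw [← hχ]
  show charDegree ((χ : H → ℂ) ∘ e.toMonoidHom) = _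
  unfold charDegree
  rw [Function.comp_apply, map_one]

theorem charDegrees_congr {G : Type u} {H : Type v} [Group G] [Group H] (e : G ≃* H) :
    charDegrees G = charDegrees H :=
  Set.Subset.antisymm (charDegrees_subset e.symm) (charDegrees_subset e)

theorem Eight.of_equiv {S : Type u} [Group S] {S' : Type v} [Group S'] (e : S ≃* S') (h : Eight S') : Eight S := by
  unfold Eight
  rw [charDegrees_congr e]
  exact h

section

variable {S : Type u} [Group S] [Finite S]

theorem finite_charDegrees : (charDegrees S).Finite := by
  have : Finite (IrrCharacter S) := Characters.Core.finite_irr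
  exact Set.finite_range _

theorem one_mem : 1 ∈ charDegrees S := by
  refine ⟨⟨1, Characters.Core.isIrr_one⟩, ?_⟩
  show charDegree (1 : S → ℂ) = 1
  unfold charDegree
  simp

theorem card_le_ncard (D : Finset ℕ) (h : ∀ d ∈ D, d ∈ charDegrees S) : D.card ≤ (charDegrees S).ncard := by
  rw [← Set.ncard_coe_finset]
  exact Set.ncard_le_ncard (fun d hd => h d hd) finite_charDegrees

theorem eight_of_finset (D : Finset ℕ) (hc : 8 ≤ D.card) (h : ∀ d ∈ D, d ∈ charDegrees S) : Eight S :=
  hc.trans (card_le_ncard D h)

/-- Different degrees in a list. -/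
theorem length_le_ncard (l : List ℕ) (hn : l.Nodup) (h : ∀ d ∈ l, d ∈ charDegrees S) :
    l.length ≤ (charDegrees S).ncard := by
  rw [← List.toFinset_card_of_nodup hn]
  exact card_le_ncard _ fun d hd => h d (List.mem_toFinset.1 hd)

theorem eight_of_list (l : List ℕ) (hn : l.Nodup) (h8 : 8 ≤ l.length) (h : ∀ d ∈ l, d ∈ charDegrees S) : Eight S :=
  h8.trans (length_le_ncard l hn h)

/-- A strictly increasing list of degrees. -/
theorem eight_of_chain (l : List ℕ) (hn : l.Pairwise (· < ·)) (h8 : 8 ≤ l.length) (h : ∀ d ∈ l, d ∈ charDegrees S) :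
    Eight S :=
  eight_of_list l (hn.imp fun h => h.ne) h8 h

theorem card_le_of_inj {ι : Type v} [Fintype ι] (f : ι → ℕ) (hf : Function.Injective f)
    (h : ∀ i, f i ∈ charDegrees S) : Fintype.card ι ≤ (charDegrees S).ncard := by
  classical
  rw [← Finset.card_univ, ← Finset.card_image_of_injective _ hf]
  refine card_le_ncard _ fun d hd => ?_
  obtain ⟨i, -, rfl⟩ := Finset.mem_image.1 hd
  exact h i

theorem eight_of_inj (f : Fin 8 → ℕ) (hf : Function.Injective f) (h : ∀ i, f i ∈ charDegrees S) : Eight S := by
  have := card_le_of_inj f hf h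
  rwa [Fintype.card_fin] at this

/-- Disjoint predicates on the degrees. -/
theorem card_le_of_clauses {ι : Type v} [Fintype ι] (P : ι → ℕ → Prop)
    (hd : ∀ i j d, i ≠ j → P i d → ¬ P j d) (h : ∀ i, ∃ d ∈ charDegrees S, P i d) :
    Fintype.card ι ≤ (charDegrees S).ncard := by
  choose f hf hP using h
  refine card_le_of_inj f (fun i j hij => ?_) hf
  by_contra hne
  exact hd i j (f i) hne (hP i) (by rw [hij]; exact hP j)

/-- Seven disjoint predicates, each satisfied by a degree different from `1`. -/
theorem eight_of_clauses (P : Fin 7 → ℕ → Prop) (hd : ∀ i j d, i ≠ j → P i d → ¬ P j d)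
    (h : ∀ i, ∃ d ∈ charDegrees S, d ≠ 1 ∧ P i d) : Eight S := by
  have h1 := card_le_of_clauses (S := S) (ι := Option (Fin 7))
    (fun o d => match o with
      | none => d = 1
      | some i => d ≠ 1 ∧ P i d) ?_ ?_
  · unfold Eight
    simpa using h1
  · intro i j d hij hi hj
    match i, j with
    | none, none => exact hij rfl
    | none, some j => exact hj.1 hi
    | some i, none => exact hi.1 hj
    | some i, some j => exact hd i j d (fun e => hij (by rw [e])) hi.2 hj.2
  · intro i
    match i with
    | none => exact ⟨1, one_mem, rfl⟩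
    | some i => exact h i

/-- The exact number of the degrees from a complete list. -/
theorem ncard_eq_of_list (l : List ℕ) (hn : l.Nodup) (h : ∀ d, d ∈ charDegrees S ↔ d ∈ l) :
    (charDegrees S).ncard = l.length := by
  have h1 : charDegrees S = (l.toFinset : Set ℕ) := by
    ext d
    rw [h d]
    simp
  rw [h1, Set.ncard_coe_finset, List.toFinset_card_of_nodup hn]

end

end Cfsg.Agent.H664.Eight
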