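import Cfsg.Agent.H664.R1.Cusp

/-!
# The cuspidal part of the Gelfand-Graev character of a rank one group (helper664)

`cusp_sums`: in a group with a split BN pair of rank one and the fusion of `PGU(3,q)` the cuspidal
part `Γ` of the Gelfand-Graev character of a nontrivial linear character `θ` of `U` has
`2 ⟨Γ, Γ⟩ = q² - q` and `2 Γ(1) = q (q - 1) (q³ + 1 - 2 ℓ)`, `ℓ` the number of linear characters.
-/

set_option autoImplicit false

open Cfsg
open scoped ComplexConjugate

namespace Cfsg.Agent.H664.Eight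

open Cfsg.Agent.Characters.Core Cfsg.Agent.OddOrderCharacters.Clifford
  Cfsg.Agent.CharactersDeep.MackeyLinear Cfsg.Agent.H664.R1

universe u

open Classical in
/-- Orthogonality for linear characters of an abelian group. -/
theorem sum_hom {A : Type*} [CommGroup A] [Finite A] [Fintype (A →* ℂˣ)] (a : A) :
    ∑ lam : A →* ℂˣ, ((lam a : ℂˣ) : ℂ) = if a = 1 then (Nat.card A : ℂ) else 0 := by
  classical
  split_ifs with h
  · subst h
    simp only [map_one, Units.val_one, Finset.sum_const, Finset.card_univ, nsmul_eq_mul, mul_one]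
    rw [← Nat.card_eq_fintype_card, CommGroup.card_monoidHom_of_hasEnoughRootsOfUnity]
  · obtain ⟨l0, h0⟩ := CommGroup.exists_apply_ne_one_of_hasEnoughRootsOfUnity A ℂ h
    have h1 : ∑ lam : A →* ℂˣ, ((lam a : ℂˣ) : ℂ) =
        (l0 a : ℂ) * ∑ lam : A →* ℂˣ, ((lam a : ℂˣ) : ℂ) := by
      rw [Finset.mul_sum]
      refine (Fintype.sum_equiv (Equiv.mulLeft l0) _ _ fun lam => ?_).symm
      simp
    have h2 : (1 - (l0 a : ℂ)) * ∑ lam : A →* ℂˣ, ((lam a : ℂˣ) : ℂ) = 0 := by
      linear_combination h1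
    rcases mul_eq_zero.1 h2 with h3 | h3
    · exact absurd (Units.ext (by rw [Units.val_one]; linear_combination -h3)) h0
    · exact h3

variable {G : Type u} [Group G] [Fintype G]

/-- The fixed vectors of `U` in an irreducible character. -/
theorem sum_ps (D : Split G) [Fintype D.U] {A : Type*} [CommGroup A] [Finite A]
    [Fintype (A →* ℂˣ)] (τ : D.B →* A) (hτ : ∀ b : D.B, τ b = 1 ↔ (b : G) ∈ D.U)
    (hA : Nat.card A = Nat.card D.T) {χ : G → ℂ} (hχ : IsIrrCharacter G χ) :
    ∑ lam : A →* ℂˣ, classInner (D.ps (lam.comp τ)) χ =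
      conj (classInner (fun u : D.U => χ u) 1) := by
  classical
  have := Fintype.ofFinite D.B
  have := Fintype.ofFinite D.T
  have h1 : ∀ lam : A →* ℂˣ, classInner (D.ps (lam.comp τ)) χ =
      (Nat.card D.B : ℂ)⁻¹ * ∑ b : D.B, ((lam (τ b) : ℂˣ) : ℂ) * conj (χ b) := by
    intro lam
    rw [D.inner_ps _ hχ, classInner_def]
    rfl
  rw [Finset.sum_congr rfl fun lam _ => h1 lam, ← Finset.mul_sum, Finset.sum_comm]
  have h2 : ∀ b : D.B, ∑ lam : A →* ℂˣ, ((lam (τ b) : ℂˣ) : ℂ) * conj (χ b) =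
      (if (b : G) ∈ D.U then (Nat.card D.T : ℂ) else 0) * conj (χ b) := by
    intro b
    rw [← Finset.sum_mul, sum_hom, hA]
    congr 1
    by_cases h : (b : G) ∈ D.U
    · rw [if_pos h, if_pos ((hτ b).2 h)]
    · rw [if_neg h, if_neg (fun h' => h ((hτ b).1 h'))]
  rw [Finset.sum_congr rfl fun b _ => h2 b]
  rw [← Fintype.sum_equiv D.borelEquiv (fun p : D.U × D.T =>
    (if ((p.1 : G) * p.2) ∈ D.U then (Nat.card D.T : ℂ) else 0) * conj (χ (p.1 * p.2))) _
    (fun p => by rw [D.borelEquiv_apply])]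
  rw [Fintype.sum_prod_type]
  have h3 : ∀ u : D.U, ∑ t : D.T, (if ((u : G) * t) ∈ D.U then (Nat.card D.T : ℂ) else 0) *
      conj (χ (u * t)) = Nat.card D.T * conj (χ u) := by
    intro u
    rw [Finset.sum_eq_single (1 : D.T)]
    · rw [OneMemClass.coe_one, mul_one, if_pos u.2]
    · intro t _ ht
      rw [if_neg, zero_mul]
      intro h
      apply ht
      have h4 : (t : G) ∈ D.U := by
        have := D.U.mul_mem (D.U.inv_mem u.2) h
        rwa [inv_mul_cancel_left] at this
      exact Subtype.ext (D.disj t h4 t.2)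
    · intro h
      exact absurd (Finset.mem_univ _) h
  rw [Finset.sum_congr rfl fun u _ => h3 u, ← Finset.mul_sum, D.card_B]
  rw [classInner_def, map_mul, map_inv₀, map_natCast, map_sum]
  have h4 : (Nat.card D.T : ℂ) ≠ 0 := by
    have : 0 < Nat.card D.T := Nat.card_pos
    exact_mod_cast this.ne'
  have h5 : (Nat.card D.U : ℂ) ≠ 0 := by
    have : 0 < Nat.card D.U := Nat.card_pos
    exact_mod_cast this.ne'
  simp only [Pi.one_apply, map_one, mul_one]
  push_cast
  field_simp

theorem eq_zero_of_sum_one {ι : Type*} [Fintype ι] {g : ι → ℕ} (hs : ∑ i, g i = 1) {i j : ι}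
    (hi : g i = 1) (hne : j ≠ i) : g j = 0 := by
  classical
  have h3 : ∑ x ∈ ({i, j} : Finset ι), g x ≤ 1 := by
    rw [← hs]
    exact Finset.sum_le_sum_of_subset (Finset.subset_univ _)
  rw [Finset.sum_pair hne.symm] at h3
  omega

/-- **The sums over the cuspidal characters.** -/
theorem cusp_sums {D : Split G} {X : Subgroup G} {q : ℕ} (H : Fus D X q) [Fintype D.U]
    [Fintype (IrrCharacter G)] (θ : D.U →* ℂˣ) (hθ1 : θ ≠ 1)
    (hθX : ∀ x : D.U, (x : G) ∈ X → θ x = 1)
    (hθ : ∀ t, t ∈ D.T → t ≠ 1 → ∃ (v : D.U) (h : t⁻¹ * (v : G) * t ∈ D.U), θ v ≠ θ ⟨_, h⟩)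
    (hT : Nat.card D.T = q ^ 2 - 1)
    {A : Type*} [CommGroup A] [Finite A] (τ : D.B →* A) (hτ : ∀ b : D.B, τ b = 1 ↔ (b : G) ∈ D.U)
    (hA : Nat.card A = Nat.card D.T)
    (hI : Nat.card {lam : A →* ℂˣ // D.Inv (lam.comp τ)} = q + 1) {ℓ : ℕ}
    (hl : Nat.card {lam : A →* ℂˣ // ∃ η : G →* ℂˣ, ∀ b : D.B, η b = lam (τ b)} = ℓ) :
    ∃ n k c : IrrCharacter G → ℕ, (∀ ψ : IrrCharacter G, (ψ : G → ℂ) 1 = n ψ) ∧
      (∀ ψ : IrrCharacter G, classInner (fun u : D.U => (ψ : G → ℂ) u) 1 = k ψ) ∧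
      (∀ ψ : IrrCharacter G,
        classInner (fun u : D.U => (ψ : G → ℂ) u) (fun u => (θ u : ℂ)) = c ψ) ∧
      (2 * ∑ ψ : IrrCharacter G, (if k ψ = 0 then (c ψ : ℤ) * c ψ else 0) = q ^ 2 - q) ∧
      (2 * ∑ ψ : IrrCharacter G, (if k ψ = 0 then (c ψ : ℤ) * n ψ else 0) =
        q * (q - 1) * (q ^ 3 + 1 - 2 * ℓ)) := by
  classical
  have hfin : Finite (A →* ℂˣ) := OddOrderCharacters.PrimeTI.finite_hom_units
  have := Fintype.ofFinite (A →* ℂˣ)
  obtain ⟨u, hu, huX⟩ := H.exists_u
  obtain ⟨x, hx, hx1⟩ := H.exists_x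
  have hq := H.hq
  have hf : ∀ (lam : A →* ℂˣ) (b : D.B), (b : G) ∈ D.U → (lam.comp τ) b = 1 := by
    intro lam b hb
    show lam (τ b) = 1
    rw [(hτ b).2 hb, map_one]
  have hnk : ∀ ψ : IrrCharacter G, ∃ n k : ℕ, (ψ : G → ℂ) 1 = n ∧
      classInner (fun u : D.U => (ψ : G → ℂ) u) 1 = k := by
    intro ψ
    obtain ⟨n, m, k, a, b, h1, -, -, h2, -⟩ := H.values ψ.2 hx hx1 hu huX
    exact ⟨n, k, h1, h2⟩
  choose n k hn hk using hnk
  obtain ⟨c, hc⟩ := exists_nat_comb (D.isCharacter_gg θ)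
  have hcψ : ∀ ψ : IrrCharacter G, classInner (D.gg θ) (ψ : G → ℂ) = c ψ := by
    intro ψ
    rw [hc, classInner_sum_nsmul_irr]
  have hcθ : ∀ ψ : IrrCharacter G,
      classInner (fun u : D.U => (ψ : G → ℂ) u) (fun u => (θ u : ℂ)) = c ψ := by
    intro ψ
    rw [← Complex.conj_natCast, ← hcψ, D.inner_gg θ ψ.2, classInner_conj_symm]
  refine ⟨n, k, c, hn, hk, hcθ, ?_⟩
  have hnorm : ∑ ψ : IrrCharacter G, c ψ ^ 2 = q ^ 2 := by
    have e := D.norm_gg θ hθ
    rw [hc, norm_eq_sum, hT] at e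
    have h1 : 1 ≤ q ^ 2 := Nat.one_le_pow _ _ (by omega)
    have e' : ∑ ψ : IrrCharacter G, c ψ ^ 2 = q ^ 2 - 1 + 1 := by exact_mod_cast e
    omega
  have hdeg : ∑ ψ : IrrCharacter G, c ψ * n ψ = (q ^ 3 + 1) * (q ^ 2 - 1) := by
    have e : D.gg θ 1 = D.U.index := by
      rw [D.gg_def, OddOrderCharacters.IndRes.indFun_apply_one, map_one, Units.val_one, mul_one]
    rw [hc, Finset.sum_apply] at e
    have e1 : ∀ ψ : IrrCharacter G, (c ψ • (ψ : G → ℂ)) 1 = ((c ψ * n ψ : ℕ) : ℂ) := by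
      intro ψ
      rw [Pi.smul_apply, hn, nsmul_eq_mul]
      push_cast
      ring
    rw [Finset.sum_congr rfl fun ψ _ => e1 ψ] at e
    have e2 : ∑ ψ : IrrCharacter G, c ψ * n ψ = D.U.index := by exact_mod_cast e
    have e3 : D.U.index * Nat.card D.U = (q ^ 3 + 1) * (q ^ 2 - 1) * Nat.card D.U := by
      rw [D.U.index_mul_card, D.card_G, D.card_B, H.cU, hT]
      ring
    rw [e2]
    exact Nat.eq_of_mul_eq_mul_right Nat.card_pos e3
  -- the multiplicities in the principal series
  have hps : ∀ lam : A →* ℂˣ, ∃ d : IrrCharacter G → ℕ,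
      (∀ ψ : IrrCharacter G, classInner (D.ps (lam.comp τ)) (ψ : G → ℂ) = d ψ) ∧
        ∑ ψ : IrrCharacter G, d ψ * c ψ = 1 := by
    intro lam
    obtain ⟨d, hd⟩ := exists_nat_comb (D.isCharacter_ps (lam.comp τ))
    refine ⟨d, fun ψ => by rw [hd, classInner_sum_nsmul_irr], ?_⟩
    have e := D.inner_U _ (hf lam) θ hθ1
    have e1 : (fun u : D.U => D.ps (lam.comp τ) u) =
        ∑ ψ : IrrCharacter G, (d ψ : ℂ) • (fun u : D.U => (ψ : G → ℂ) u) := by
      funext u
      rw [hd, Finset.sum_apply, Finset.sum_apply]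
      refine Finset.sum_congr rfl fun ψ _ => ?_
      rw [Pi.smul_apply, Pi.smul_apply, nsmul_eq_mul, smul_eq_mul]
    rw [e1, classInner_sum_left] at e
    have e2 : ∀ ψ : IrrCharacter G, classInner ((d ψ : ℂ) • (fun u : D.U => (ψ : G → ℂ) u))
        (fun u => (θ u : ℂ)) = ((d ψ * c ψ : ℕ) : ℂ) := by
      intro ψ
      rw [classInner_smul_left, hcθ]
      push_cast
      ring
    rw [Finset.sum_congr rfl fun ψ _ => e2 ψ] at e
    exact_mod_cast e
  choose P hP hP1 using hps
  have hkP : ∀ ψ : IrrCharacter G, k ψ = ∑ lam : A →* ℂˣ, P lam ψ := by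
    intro ψ
    have h1 := sum_ps D τ hτ hA ψ.2
    rw [Finset.sum_congr rfl fun lam _ => hP lam ψ, hk, Complex.conj_natCast] at h1
    exact_mod_cast h1.symm
  set Lin : (A →* ℂˣ) → Prop := fun lam => ∃ η : G →* ℂˣ, ∀ b : D.B, η b = lam (τ b) with hLin
  have hLI : ∀ lam, Lin lam → D.Inv (lam.comp τ) := by
    rintro lam ⟨η, hη⟩
    refine ⟨hf lam, fun t ht => ?_⟩
    show lam (τ _) = lam (τ _)
    rw [← hη, ← hη, map_mul, map_mul, map_inv, mul_right_comm, inv_mul_cancel, one_mul]
  have hN0 : 1 ≤ q ^ 2 - q + 1 := by omega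
  have hqN : q ^ 2 - q + 1 ≠ 1 := by
    have : q * 3 ≤ q * q := Nat.mul_le_mul_left _ hq
    have h2 : q ^ 2 = q * q := by ring
    omega
  have key : ∀ lam : A →* ℂˣ, ∃ ψ : IrrCharacter G, P lam ψ = 1 ∧ c ψ = 1 ∧
      k ψ * (if D.Inv (lam.comp τ) then 2 else 1) = 2 ∧
      n ψ = if D.Inv (lam.comp τ) then (if Lin lam then q ^ 3 else q * (q ^ 2 - q + 1))
        else q ^ 3 + 1 := by
    intro lam
    by_cases hinv : D.Inv (lam.comp τ)
    · rw [if_pos hinv, if_pos hinv]
      obtain ⟨χ, χ', hne, hsum, hχu, hχu', hχk, hχk', hd⟩ := H.pair hu huX _ hinv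
      have hP1' : P lam χ = 1 := by
        have h1 := hP lam χ
        rw [hsum, classInner_add_left, classInner_irr_self χ.2, classInner_irr_ne χ'.2 χ.2
          (fun h => hne (Subtype.ext h).symm), add_zero] at h1
        exact_mod_cast h1.symm
      have hP2 : P lam χ' = 1 := by
        have h1 := hP lam χ'
        rw [hsum, classInner_add_left, classInner_irr_self χ'.2, classInner_irr_ne χ.2 χ'.2
          (fun h => hne (Subtype.ext h)), zero_add] at h1
        exact_mod_cast h1.symm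
      refine ⟨χ', hP2, ?_, ?_, ?_⟩
      · have h1 := H.inner_theta (isIrr_isClassFunction χ'.2) hu huX θ hθ1 hθX
        rw [hcθ, hχk', hχu', sub_zero] at h1
        exact_mod_cast h1
      · have h1 := hk χ'
        rw [hχk'] at h1
        have h2 : k χ' = 1 := by exact_mod_cast h1.symm
        rw [h2]
      · by_cases hlin : Lin lam
        · rw [if_pos hlin]
          obtain ⟨η, hη⟩ := hlin
          -- the linear character is a constituent
          have hηi := Cfsg.Agent.Characters.Linear.isIrrCharacter_hom η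
          have h1 : classInner (D.ps (lam.comp τ)) (fun g => (η g : ℂ)) ≠ 0 := by
            have := Fintype.ofFinite D.B
            rw [D.inner_ps _ hηi]
            have h2 : (fun b : D.B => ((η b : ℂˣ) : ℂ)) = (fun b => ((lam.comp τ) b : ℂ)) := by
              funext b
              rw [hη]
              rfl
            rw [h2, classInner_irr_self (Cfsg.Agent.Characters.Linear.isIrrCharacter_hom _)]
            exact one_ne_zero
          have h2 : (fun g => ((η g : ℂˣ) : ℂ)) = (χ : G → ℂ) ∨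
              (fun g => ((η g : ℂˣ) : ℂ)) = (χ' : G → ℂ) := by
            by_contra hcon
            push Not at hcon
            apply h1
            rw [hsum, classInner_add_left, classInner_irr_ne χ.2 hηi hcon.1.symm,
              classInner_irr_ne χ'.2 hηi hcon.2.symm, add_zero]
          have h3 := hn χ'
          rcases hd with ⟨hd1, hd2⟩ | ⟨hd1, hd2⟩
          · rw [hd2] at h3
            exact_mod_cast h3.symm
          · exfalso
            rcases h2 with h2 | h2
            · have h4 := congrFun h2 1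
              rw [map_one, Units.val_one, hd1] at h4
              exact hqN (by exact_mod_cast h4.symm)
            · have h4 := congrFun h2 1
              rw [map_one, Units.val_one, hd2] at h4
              have h5 : q * (q ^ 2 - q + 1) = 1 := by exact_mod_cast h4.symm
              have h6 := Nat.eq_one_of_mul_eq_one_left h5
              omega
        · rw [if_neg hlin]
          have h3 := hn χ'
          rcases hd with ⟨hd1, hd2⟩ | ⟨hd1, hd2⟩
          · exfalso
            apply hlin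
            obtain ⟨η, hη⟩ := Cfsg.Agent.Characters.Linear.isIrrCharacter_degree_one_iff.1
              ⟨χ.2, hd1⟩
            refine ⟨η, fun b => ?_⟩
            have := Fintype.ofFinite D.B
            have h4 := hP lam χ
            rw [hP1', D.inner_ps _ χ.2] at h4
            by_contra hcon
            have h5 : classInner (fun b : D.B => ((lam.comp τ) b : ℂ))
                (fun b : D.B => (χ : G → ℂ) b) = 0 := by
              have h6 : (fun b : D.B => (χ : G → ℂ) b) =
                  fun b : D.B => (((η.comp D.B.subtype) b : ℂˣ) : ℂ) := by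
                funext b
                rw [hη]
                rfl
              rw [h6]
              refine classInner_irr_ne (Cfsg.Agent.Characters.Linear.isIrrCharacter_hom _)
                (Cfsg.Agent.Characters.Linear.isIrrCharacter_hom _) fun h7 => hcon ?_
              exact (Units.ext (congrFun h7 b)).symm
            rw [h5] at h4
            simp at h4
          · rw [hd2] at h3
            exact_mod_cast h3.symm
    · rw [if_neg hinv, if_neg hinv]
      have h0 : ∃ t, ∃ ht : t ∈ D.T, (lam.comp τ) ⟨t, D.TB ht⟩ ≠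
          (lam.comp τ) ⟨D.w⁻¹ * t * D.w, D.TB (D.wT t ht)⟩ := by
        by_contra hcon
        push Not at hcon
        exact hinv ⟨hf lam, hcon⟩
      have hirr := D.isIrr_ps _ h0
      refine ⟨⟨_, hirr⟩, ?_, ?_, ?_, ?_⟩
      · have h1 := hP lam ⟨_, hirr⟩
        rw [classInner_irr_self hirr] at h1
        exact_mod_cast h1.symm
      · have h1 := hcθ ⟨_, hirr⟩
        rw [D.inner_U _ (hf lam) θ hθ1] at h1
        exact_mod_cast h1.symm
      · have h1 := hk ⟨_, hirr⟩
        rw [D.inner_U_one _ (hf lam)] at h1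
        have h2 : k ⟨_, hirr⟩ = 2 := by exact_mod_cast h1.symm
        rw [h2]
      · have h1 := hn ⟨_, hirr⟩
        have h2 := D.ps_one (lam.comp τ)
        rw [H.cU] at h2
        have h3 : ((n ⟨_, hirr⟩ : ℕ) : ℂ) = ((q ^ 3 + 1 : ℕ) : ℂ) := by
          rw [← h1]
          push_cast
          push_cast at h2
          exact h2
        exact_mod_cast h3
  choose Y hY1 hY2 hY3 hY4 using key
  have hY0 : ∀ lam ψ, ψ ≠ Y lam → P lam ψ * c ψ = 0 := fun lam ψ hne =>
    eq_zero_of_sum_one (g := fun ψ => P lam ψ * c ψ) (hP1 lam) (i := Y lam) (j := ψ)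
      (by rw [hY1, hY2]) hne
  have hPw : ∀ ψ : IrrCharacter G, c ψ ≠ 0 → k ψ ≠ 0 →
      ∑ lam : A →* ℂˣ, P lam ψ * (if D.Inv (lam.comp τ) then 2 else 1) = 2 := by
    intro ψ hc0 hk0
    have h1 : ∀ lam : A →* ℂˣ, P lam ψ * (if D.Inv (lam.comp τ) then 2 else 1) * k ψ =
        2 * P lam ψ := by
      intro lam
      by_cases h0 : P lam ψ = 0
      · rw [h0, zero_mul, zero_mul, mul_zero]
      · have hψ : ψ = Y lam := by
          by_contra hne
          rcases Nat.mul_eq_zero.1 (hY0 lam ψ hne) with h | h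
          · exact h0 h
          · exact hc0 h
        rw [hψ, mul_assoc, mul_comm _ (k (Y lam)), hY3 lam, mul_comm]
    have h2 : (∑ lam : A →* ℂˣ, P lam ψ * (if D.Inv (lam.comp τ) then 2 else 1)) * k ψ =
        2 * k ψ := by
      rw [Finset.sum_mul, Finset.sum_congr rfl fun lam _ => h1 lam, ← Finset.mul_sum, ← hkP]
    exact Nat.eq_of_mul_eq_mul_right (Nat.pos_of_ne_zero hk0) h2
  have hgen : ∀ g : IrrCharacter G → ℤ,
      2 * ∑ ψ : IrrCharacter G, (if k ψ = 0 then 0 else (c ψ : ℤ) * g ψ) =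
        ∑ lam : A →* ℂˣ, (if D.Inv (lam.comp τ) then 2 else 1) * g (Y lam) := by
    intro g
    have h1 : ∀ ψ : IrrCharacter G, 2 * (if k ψ = 0 then 0 else (c ψ : ℤ) * g ψ) =
        ∑ lam : A →* ℂˣ, (if D.Inv (lam.comp τ) then 2 else 1) * (((P lam ψ * c ψ : ℕ) : ℤ) * g ψ) := by
      intro ψ
      by_cases hk0 : k ψ = 0
      · rw [if_pos hk0, mul_zero]
        symm
        refine Finset.sum_eq_zero fun lam _ => ?_
        have h2 := hkP ψ
        rw [hk0] at h2
        rw [(Finset.sum_eq_zero_iff.1 h2.symm) lam (Finset.mem_univ _)]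
        simp
      · rw [if_neg hk0]
        by_cases hc0 : c ψ = 0
        · rw [hc0]
          simp
        · have h2 := hPw ψ hc0 hk0
          have h3 : ∑ lam : A →* ℂˣ, (P lam ψ : ℤ) * (if D.Inv (lam.comp τ) then 2 else 1) = 2 := by
            have : ((∑ lam : A →* ℂˣ, P lam ψ * (if D.Inv (lam.comp τ) then 2 else 1) : ℕ) : ℤ) =
                2 := by rw [h2]; rfl
            push_cast at this
            exact this
          calc 2 * ((c ψ : ℤ) * g ψ) =
              (∑ lam : A →* ℂˣ, (P lam ψ : ℤ) * (if D.Inv (lam.comp τ) then 2 else 1)) *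
                ((c ψ : ℤ) * g ψ) := by rw [h3]
            _ = _ := by
              rw [Finset.sum_mul]
              refine Finset.sum_congr rfl fun lam _ => ?_
              push_cast
              ring
    rw [Finset.mul_sum, Finset.sum_congr rfl fun ψ _ => h1 ψ, Finset.sum_comm]
    refine Finset.sum_congr rfl fun lam _ => ?_
    rw [Finset.sum_eq_single (Y lam)]
    · rw [hY1, hY2]
      simp
    · intro ψ _ hne
      rw [hY0 lam ψ hne]
      simp
    · intro h
      exact absurd (Finset.mem_univ _) h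
  have hsplit : ∀ g : IrrCharacter G → ℤ,
      2 * ∑ ψ : IrrCharacter G, (if k ψ = 0 then (c ψ : ℤ) * g ψ else 0) =
        2 * ∑ ψ : IrrCharacter G, (c ψ : ℤ) * g ψ -
          ∑ lam : A →* ℂˣ, (if D.Inv (lam.comp τ) then 2 else 1) * g (Y lam) := by
    intro g
    rw [← hgen, ← mul_sub, ← Finset.sum_sub_distrib]
    congr 1
    refine Finset.sum_congr rfl fun ψ _ => ?_
    split_ifs <;> ring
  -- cardinalities
  have hq2 : 1 ≤ q ^ 2 := Nat.one_le_pow _ _ (by omega)
  have hcA : (Fintype.card (A →* ℂˣ) : ℤ) = q ^ 2 - 1 := by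
    rw [← Nat.card_eq_fintype_card, CommGroup.card_monoidHom_of_hasEnoughRootsOfUnity, hA, hT]
    push_cast [hq2]
    ring
  have hcI : ∑ lam : A →* ℂˣ, (if D.Inv (lam.comp τ) then (1 : ℤ) else 0) = q + 1 := by
    have h1 : Nat.card {lam : A →* ℂˣ // D.Inv (lam.comp τ)} =
        ∑ lam : A →* ℂˣ, (if D.Inv (lam.comp τ) then 1 else 0) := by
      rw [Nat.card_eq_fintype_card, Fintype.card_subtype, Finset.card_eq_sum_ones,
        Finset.sum_filter]
    rw [hI] at h1
    have h2 : ((q + 1 : ℕ) : ℤ) =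
      ((∑ lam : A →* ℂˣ, (if D.Inv (lam.comp τ) then 1 else 0) : ℕ) : ℤ) := by rw [h1]
    push_cast at h2
    exact h2.symm
  have hcL : ∑ lam : A →* ℂˣ, (if Lin lam then (1 : ℤ) else 0) = ℓ := by
    have h1 : Nat.card {lam : A →* ℂˣ // Lin lam} =
        ∑ lam : A →* ℂˣ, (if Lin lam then 1 else 0) := by
      rw [Nat.card_eq_fintype_card, Fintype.card_subtype, Finset.card_eq_sum_ones,
        Finset.sum_filter]
    have h3 : Nat.card {lam : A →* ℂˣ // Lin lam} = ℓ := hl
    rw [h3] at h1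
    have h2 : ((ℓ : ℕ) : ℤ) =
      ((∑ lam : A →* ℂˣ, (if Lin lam then 1 else 0) : ℕ) : ℤ) := by rw [← h1]
    push_cast at h2
    exact h2.symm
  refine ⟨?_, ?_⟩
  · have h1 := hsplit (fun ψ => (c ψ : ℤ))
    rw [h1]
    have h2 : ∑ ψ : IrrCharacter G, (c ψ : ℤ) * c ψ = q ^ 2 := by
      have : ((∑ ψ : IrrCharacter G, c ψ ^ 2 : ℕ) : ℤ) = ((q ^ 2 : ℕ) : ℤ) := by rw [hnorm]
      push_cast at this
      rw [← this]
      exact Finset.sum_congr rfl fun ψ _ => by ring
    have h3 : ∑ lam : A →* ℂˣ, (if D.Inv (lam.comp τ) then 2 else 1) * ((c (Y lam) : ℕ) : ℤ) =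
        (q ^ 2 - 1) + (q + 1) := by
      have h4 : ∀ lam : A →* ℂˣ, (if D.Inv (lam.comp τ) then 2 else 1) * ((c (Y lam) : ℕ) : ℤ) =
          1 + (if D.Inv (lam.comp τ) then (1 : ℤ) else 0) := by
        intro lam
        rw [hY2]
        split_ifs <;> norm_num
      rw [Finset.sum_congr rfl fun lam _ => h4 lam, Finset.sum_add_distrib, hcI,
        Finset.sum_const, Finset.card_univ, nsmul_eq_mul, hcA, mul_one]
    rw [h2, h3]
    ring
  · have h1 := hsplit (fun ψ => (n ψ : ℤ))
    rw [h1]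
    have h2 : ∑ ψ : IrrCharacter G, (c ψ : ℤ) * n ψ = (q ^ 3 + 1) * (q ^ 2 - 1) := by
      have : ((∑ ψ : IrrCharacter G, c ψ * n ψ : ℕ) : ℤ) = (((q ^ 3 + 1) * (q ^ 2 - 1) : ℕ) : ℤ) := by
        rw [hdeg]
      push_cast [hq2] at this
      exact this
    have hqq : q ≤ q ^ 2 := by
      have : q * 1 ≤ q * q := Nat.mul_le_mul_left _ (by omega)
      have h2 : q ^ 2 = q * q := by ring
      omega
    have h3 : ∑ lam : A →* ℂˣ, (if D.Inv (lam.comp τ) then 2 else 1) * ((n (Y lam) : ℕ) : ℤ) =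
        (q ^ 3 + 1) * (q ^ 2 - 1) + (2 * (q * (q ^ 2 - q + 1)) - (q ^ 3 + 1)) * (q + 1) +
          2 * (q ^ 3 - q * (q ^ 2 - q + 1)) * ℓ := by
      have h4 : ∀ lam : A →* ℂˣ, (if D.Inv (lam.comp τ) then 2 else 1) * ((n (Y lam) : ℕ) : ℤ) =
          (q ^ 3 + 1) + (2 * (q * (q ^ 2 - q + 1)) - (q ^ 3 + 1)) *
            (if D.Inv (lam.comp τ) then (1 : ℤ) else 0) +
          2 * (q ^ 3 - q * (q ^ 2 - q + 1)) * (if Lin lam then (1 : ℤ) else 0) := by
        intro lam
        rw [hY4]
        by_cases hi : D.Inv (lam.comp τ)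
        · rw [if_pos hi, if_pos hi, if_pos hi]
          by_cases hlin : Lin lam
          · rw [if_pos hlin, if_pos hlin]
            push_cast
            ring
          · rw [if_neg hlin, if_neg hlin]
            push_cast [hqq]
            ring
        · have hlin : ¬ Lin lam := fun h => hi (hLI lam h)
          rw [if_neg hi, if_neg hi, if_neg hi, if_neg hlin]
          push_cast
          ring
      rw [Finset.sum_congr rfl fun lam _ => h4 lam, Finset.sum_add_distrib,
        Finset.sum_add_distrib, ← Finset.mul_sum, ← Finset.mul_sum, hcI, hcL,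
        Finset.sum_const, Finset.card_univ, nsmul_eq_mul, hcA]
      ring
    rw [h2, h3]
    ring

end Cfsg.Agent.H664.Eight
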