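import Mathlib

/-!
# Arithmetic for the character degrees of `PSU(3,q)` (helper664)
-/

set_option autoImplicit false

namespace Cfsg.Agent.H664.Eight.U3Arith

theorem coprime_D {q g D' : ℕ} (hq : 3 ≤ q) (hg : g * D' = q ^ 2 + q + 1)
    (hg3 : (g = 1 ∧ ¬ 3 ∣ q ^ 2 + q + 1) ∨ g = 3) :
    Nat.Coprime D' (2 * ((q ^ 3 + 1) * (q ^ 3 * (q ^ 2 - 1)))) := by
  refine Nat.coprime_of_dvd fun r hr h1 h2 => ?_
  have hD : r ∣ q ^ 2 + q + 1 := by
    rw [← hg]
    exact h1.mul_left _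
  have hodd : ¬ 2 ∣ q ^ 2 + q + 1 := by
    intro h
    have h3 : 2 ∣ q * (q + 1) := (Nat.even_mul_succ_self q).two_dvd
    have h4 : q ^ 2 + q + 1 = q * (q + 1) + 1 := by ring
    rw [h4] at h
    have := (Nat.dvd_add_right h3).1 h
    omega
  have hr2 : r ≠ 2 := fun h => hodd (h ▸ hD)
  have h1' : ∀ m, r ∣ m → r ∣ m + 1 → False := by
    intro m h3 h4
    exact hr.one_lt.ne' (Nat.dvd_one.1 ((Nat.dvd_add_right h3).1 h4))
  have hq1 : r ∣ q → False := by
    intro h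
    have h3 : r ∣ q * (q + 1) := h.mul_right _
    refine h1' _ h3 ?_
    have h4 : q * (q + 1) + 1 = q ^ 2 + q + 1 := by ring
    rwa [h4]
  rcases hr.dvd_mul.1 h2 with h3 | h3
  · exact hr2 ((Nat.prime_dvd_prime_iff_eq hr Nat.prime_two).1 h3)
  rcases hr.dvd_mul.1 h3 with h3 | h3
  · have h4 : q * (q ^ 2 + q + 1) + 2 = (q ^ 3 + 1) + (q ^ 2 + q + 1) := by ring
    have h5 : r ∣ q * (q ^ 2 + q + 1) + 2 := by
      rw [h4]
      exact dvd_add h3 hD
    have h6 := (Nat.dvd_add_right (hD.mul_left q)).1 h5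
    exact hr2 ((Nat.prime_dvd_prime_iff_eq hr Nat.prime_two).1 h6)
  rcases hr.dvd_mul.1 h3 with h3 | h3
  · exact hq1 (hr.dvd_of_dvd_pow h3)
  obtain ⟨j, rfl⟩ : ∃ j, q = j + 1 := ⟨q - 1, by omega⟩
  have h4 : (j + 1) ^ 2 - 1 = j * (j + 2) := by
    have : (j + 1) ^ 2 = j * (j + 2) + 1 := by ring
    omega
  rw [h4] at h3
  rcases hr.dvd_mul.1 h3 with h3 | h3
  · have h5 : (j + 1) ^ 2 + (j + 1) + 1 = j * (j + 3) + 3 := by ring
    rw [h5] at hD hg
    have h6 := (Nat.dvd_add_right (h3.mul_right (j + 3))).1 hD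
    have h7 : r = 3 := (Nat.prime_dvd_prime_iff_eq hr Nat.prime_three).1 h6
    subst h7
    obtain ⟨i, rfl⟩ := h3
    obtain ⟨D'', rfl⟩ := h1
    rcases hg3 with ⟨rfl, hg3⟩ | rfl
    · apply hg3
      rw [h5, ← hg]
      exact ⟨D'', by ring⟩
    · have h8 : 9 * D'' = 9 * (i * (i + 1)) + 3 := by
        have : 3 * (3 * D'') = 9 * D'' := by ring
        rw [this] at hg
        rw [hg]
        ring
      omega
  · refine h1' ((j + 1) * (j + 2)) (h3.mul_left _) ?_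
    have h5 : (j + 1) * (j + 2) + 1 = (j + 1) ^ 2 + (j + 1) + 1 := by ring
    rwa [h5]

/-- **No unique degree, index one.** -/
theorem arith_one {ι : Type*} [Fintype ι] (c n e : ι → ℕ) (E : ι → Prop) [DecidablePred E]
    {q b : ℕ} (hq : 3 ≤ q) (hn : ∀ i, E i → c i ≠ 0 → n i = b)
    (hne : ∀ i, E i → (n i : ℤ) = (q ^ 2 - 1) * c i + q * (q - 1) * e i)
    (h1 : 2 * ∑ i, (if E i then (c i : ℤ) * c i else 0) = q ^ 2 - q)
    (h2 : 2 * ∑ i, (if E i then (c i : ℤ) * n i else 0) = q * (q - 1) * (q ^ 3 - 1))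
    (hb : b ∣ (q ^ 3 + 1) * (q ^ 3 * (q ^ 2 - 1))) : False := by
  set s : ℕ := ∑ i, (if E i then c i else 0) with hs
  have hsz : (s : ℤ) = ∑ i, (if E i then (c i : ℤ) else 0) := by
    rw [hs]
    push_cast
    rfl
  have h3 : 2 * ((b : ℤ) * s) = q * (q - 1) * (q ^ 3 - 1) := by
    rw [← h2, hsz, Finset.mul_sum]
    congr 1
    refine Finset.sum_congr rfl fun i _ => ?_
    split_ifs with hi
    · by_cases h0 : c i = 0
      · rw [h0]
        simp
      · rw [hn i hi h0]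
        ring
    · simp
  -- the bound
  have h4 : (s : ℤ) ≤ ∑ i, (if E i then (c i : ℤ) * c i else 0) := by
    rw [hsz]
    refine Finset.sum_le_sum fun i _ => ?_
    split_ifs
    · have : c i ≤ c i * c i := Nat.le_mul_self _
      exact_mod_cast this
    · exact le_refl _
  obtain ⟨g, D', hg, hg3⟩ : ∃ g D', g * D' = q ^ 2 + q + 1 ∧
      ((g = 1 ∧ ¬ 3 ∣ q ^ 2 + q + 1) ∨ g = 3) := by
    by_cases h : 3 ∣ q ^ 2 + q + 1
    · obtain ⟨D', hD⟩ := h
      exact ⟨3, D', hD.symm, Or.inr rfl⟩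
    · exact ⟨1, q ^ 2 + q + 1, one_mul _, Or.inl ⟨rfl, h⟩⟩
  have hgle : g ≤ 3 := by omega
  have hg0 : 0 < g := by omega
  have hco := coprime_D hq hg hg3
  obtain ⟨r, rfl⟩ : ∃ r, q = r + 1 := ⟨q - 1, by omega⟩
  have h5 : 2 * b * s = (r + 1) * r ^ 2 * g * D' := by
    have h6 : ((2 * b * s : ℕ) : ℤ) = (((r + 1) * r ^ 2 * g * D' : ℕ) : ℤ) := by
      have h7 : ((g * D' : ℕ) : ℤ) = (((r + 1) ^ 2 + (r + 1) + 1 : ℕ) : ℤ) := by rw [hg]
      push_cast at h3 h7 ⊢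
      linear_combination h3 - (r + 1) * r ^ 2 * h7
    exact_mod_cast h6
  have hcb : Nat.Coprime D' (2 * b) := by
    obtain ⟨z, hz⟩ := hb
    refine Nat.Coprime.coprime_dvd_right ?_ hco
    exact Nat.mul_dvd_mul_left 2 ⟨z, hz⟩
  have h6 : D' ∣ s := by
    refine hcb.dvd_of_dvd_mul_left ?_
    rw [h5]
    exact Dvd.intro_left _ rfl
  obtain ⟨s', hs'⟩ := h6
  have hD0 : 0 < D' := by
    rcases Nat.eq_zero_or_pos D' with h | h
    · rw [h, mul_zero] at hg
      omega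
    · exact h
  have hbs : 2 * b * s' = (r + 1) * r ^ 2 * g := by
    have : 2 * b * s' * D' = (r + 1) * r ^ 2 * g * D' := by
      rw [← h5, hs']
      ring
    exact Nat.eq_of_mul_eq_mul_right hD0 this
  have hr2 : 2 ≤ r := by omega
  have hs1 : s' ≤ 1 := by
    by_contra hcon
    have h7 : 2 * D' ≤ s := by
      rw [hs', mul_comm]
      exact Nat.mul_le_mul_left _ (by omega)
    have h8 : (r + 1) ^ 2 + (r + 1) + 1 ≤ 3 * D' := by
      rw [← hg]
      exact Nat.mul_le_mul_right _ hgle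
    have h9 : 2 * (s : ℤ) ≤ (r + 1) ^ 2 - (r + 1) := by
      have : ((r + 1 : ℕ) : ℤ) = (r : ℤ) + 1 := by push_cast; ring
      rw [this] at h1
      linarith
    have h7' : 2 * (D' : ℤ) ≤ s := by exact_mod_cast h7
    have h8' : ((r : ℤ) + 1) ^ 2 + (r + 1) + 1 ≤ 3 * D' := by exact_mod_cast h8
    nlinarith
  have hs'0 : s' ≠ 0 := by
    rintro rfl
    rw [mul_zero] at hbs
    have : 0 < (r + 1) * r ^ 2 * g := by positivity
    omega
  have hs'1 : s' = 1 := by omega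
  subst hs'1
  rw [mul_one] at hbs hs'
  -- `q ∣ 2 b`
  have hqc : ∀ i, E i → c i ≠ 0 → r + 1 ≤ 2 * c i := by
    intro i hi h0
    have h7 := hne i hi
    rw [hn i hi h0] at h7
    have h8 : ((r + 1 : ℕ) : ℤ) ∣ 2 * c i := by
      have h9 : 2 * (b : ℤ) = (r + 1) * r ^ 2 * g := by exact_mod_cast hbs
      refine ⟨2 * (r + 1) * c i + 2 * r * e i - r ^ 2 * g, ?_⟩
      push_cast at h7 ⊢
      linear_combination 2 * h7 - h9
    have h9 : (r + 1) ∣ 2 * c i := by exact_mod_cast h8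
    exact Nat.le_of_dvd (by omega) h9
  have h7 : ((r + 1 : ℕ) : ℤ) * s ≤ 2 * ∑ i, (if E i then (c i : ℤ) * c i else 0) := by
    rw [hsz, Finset.mul_sum, Finset.mul_sum]
    refine Finset.sum_le_sum fun i _ => ?_
    split_ifs with hi
    · by_cases h0 : c i = 0
      · rw [h0]
        simp
      · have : (r + 1) * c i ≤ 2 * c i * c i := Nat.mul_le_mul_right _ (hqc i hi h0)
        have h8 : (((r + 1) * c i : ℕ) : ℤ) ≤ ((2 * c i * c i : ℕ) : ℤ) := by exact_mod_cast this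
        push_cast at h8 ⊢
        linarith
    · simp
  have h8 : (s : ℤ) ≤ r := by
    rw [h1] at h7
    have h9 : ((r : ℤ) + 1) * s ≤ (r + 1) * r := by
      push_cast at h7
      linarith
    exact le_of_mul_le_mul_left h9 (by positivity)
  have h9 : s ≤ r := by exact_mod_cast h8
  have h10 : (r + 1) ^ 2 + (r + 1) + 1 ≤ 3 * D' := by
    rw [← hg]
    exact Nat.mul_le_mul_right _ hgle
  rw [hs'] at h9
  nlinarith

theorem dvd_36 {q g K : ℕ} (hK : q ^ 3 = K + 5) (h1 : g ∣ (q ^ 3 + 1) * (q + 1)) (h2 : g ∣ K) :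
    g ∣ 36 := by
  have h3 : g ∣ 6 * (q + 1) := by
    have : (q ^ 3 + 1) * (q + 1) = K * (q + 1) + 6 * (q + 1) := by
      rw [hK]
      ring
    rw [this] at h1
    exact (Nat.dvd_add_right (h2.mul_right _)).1 h1
  have h4 : g ∣ 6 * (q ^ 3 + 1) := by
    rcases Nat.eq_zero_or_pos q with rfl | h0
    · simpa using h3
    obtain ⟨j, rfl⟩ : ∃ j, q = j + 1 := ⟨q - 1, by omega⟩
    have : 6 * ((j + 1) ^ 3 + 1) = 6 * (j + 1 + 1) * (j ^ 2 + j + 1) := by ring
    rw [this]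
    exact h3.mul_right _
  rw [hK] at h4
  have h5 : 6 * (K + 5 + 1) = 6 * K + 36 := by ring
  rw [h5] at h4
  exact (Nat.dvd_add_right (h2.mul_left _)).1 h4

theorem dvd_12 {j g K : ℕ} (hK : (3 * j + 2) ^ 3 = K + 5) (h1 : g ∣ 36) (h2 : g ∣ K) :
    g ∣ 12 := by
  have h3 : K = 9 * (3 * j ^ 3 + 6 * j ^ 2 + 4 * j) + 3 := by
    have : (3 * j + 2) ^ 3 = 9 * (3 * j ^ 3 + 6 * j ^ 2 + 4 * j) + 8 := by ring
    omega
  have h4 : g ∣ 4 * K := h2.mul_left _
  rw [h3] at h4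
  have h5 : 4 * (9 * (3 * j ^ 3 + 6 * j ^ 2 + 4 * j) + 3) =
      36 * (3 * j ^ 3 + 6 * j ^ 2 + 4 * j) + 12 := by ring
  rw [h5] at h4
  exact (Nat.dvd_add_right (h1.mul_right _)).1 h4

theorem coprime_div {b q p k : ℕ} (hp : p.Prime) (hpk : q = p ^ k) (hb : 0 < b) {g : ℕ}
    (hg : b = Nat.gcd b q * g) (hne : Nat.gcd b q ≠ q) : Nat.Coprime g q := by
  rw [hpk]
  refine Nat.Coprime.pow_right k ?_
  rw [Nat.coprime_comm, hp.coprime_iff_not_dvd]
  rintro ⟨g', rfl⟩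
  have h1 : Nat.gcd b q ∣ p ^ k := hpk ▸ Nat.gcd_dvd_right b q
  obtain ⟨j, hj, hj2⟩ := (Nat.dvd_prime_pow hp).1 h1
  have hjk : j < k := by
    rcases lt_or_eq_of_le hj with h | h
    · exact h
    · exfalso
      apply hne
      rw [hj2, h, hpk]
  have h2 : Nat.gcd b q * p ∣ q := by
    rw [hj2, ← pow_succ, hpk]
    exact pow_dvd_pow _ hjk
  have h3 : Nat.gcd b q * p ∣ b := ⟨g', by rw [mul_assoc]; exact hg⟩
  have h4 := Nat.le_of_dvd (Nat.gcd_pos_of_pos_left _ hb) (Nat.dvd_gcd h3 h2)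
  have h5 := Nat.gcd_pos_of_pos_left q hb
  have h6 := hp.two_le
  nlinarith

/-- **No unique degree, index three.** -/
theorem arith_three {ι : Type*} [Fintype ι] (c n e t : ι → ℕ) (E : ι → Prop) [DecidablePred E]
    {q b p k : ℕ} (hq : 3 ≤ q) (hq3 : 3 ∣ q - 2) (hp : p.Prime) (hpk : q = p ^ k)
    (hn : ∀ i, E i → c i ≠ 0 → n i = b * t i) (ht : ∀ i, t i = 1 ∨ t i = 3)
    (hne : ∀ i, E i → (n i : ℤ) = (q ^ 2 - 1) * c i + q * (q - 1) * e i)
    (h1 : 2 * ∑ i, (if E i then (c i : ℤ) * c i else 0) = q ^ 2 - q)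
    (h2 : 2 * ∑ i, (if E i then (c i : ℤ) * n i else 0) = q * (q - 1) * (q ^ 3 - 5))
    (hb : b ∣ (q ^ 3 + 1) * (q ^ 3 * (q ^ 2 - 1))) : False := by
  have hq5 : 5 ≤ q := by omega
  set s : ℕ := ∑ i, (if E i then c i * t i else 0) with hs
  have hsz : (s : ℤ) = ∑ i, (if E i then (c i : ℤ) * t i else 0) := by
    rw [hs]
    push_cast
    rfl
  have h3 : 2 * ((b : ℤ) * s) = q * (q - 1) * (q ^ 3 - 5) := by
    rw [← h2, hsz, Finset.mul_sum]
    congr 1
    refine Finset.sum_congr rfl fun i _ => ?_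
    split_ifs with hi
    · by_cases h0 : c i = 0
      · rw [h0]
        simp
      · rw [hn i hi h0]
        push_cast
        ring
    · simp
  -- a term
  obtain ⟨i0, hi0, hc0⟩ : ∃ i, E i ∧ c i ≠ 0 := by
    by_contra hcon
    push Not at hcon
    have h4 : ∑ i, (if E i then (c i : ℤ) * c i else 0) = 0 := by
      refine Finset.sum_eq_zero fun i _ => ?_
      split_ifs with hi
      · rw [hcon i hi]
        simp
      · rfl
    rw [h4] at h1
    have : (5 : ℤ) ≤ q := by exact_mod_cast hq5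
    nlinarith
  have hterm : ∀ i, E i → 2 * ((c i : ℤ) * c i) ≤ q ^ 2 - q := by
    intro i hi
    rw [← h1]
    have := Finset.single_le_sum (f := fun i => if E i then (c i : ℤ) * c i else 0)
      (fun j _ => by
        show (0 : ℤ) ≤ if E j then (c j : ℤ) * c j else 0
        split_ifs
        · positivity
        · exact le_refl _) (Finset.mem_univ i)
    simp only [if_pos hi] at this
    linarith
  obtain ⟨j, rfl⟩ : ∃ j, q = 3 * j + 2 := by
    obtain ⟨j, hj⟩ := hq3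
    exact ⟨j, by omega⟩
  have hj1 : 1 ≤ j := by omega
  set q := 3 * j + 2 with hqj
  -- `(q - 1) ∣ b`
  have hqb : 3 * j + 1 ∣ b := by
    have h4 : ((3 * j + 1 : ℕ) : ℤ) ∣ ((b * t i0 : ℕ) : ℤ) := by
      rw [← hn i0 hi0 hc0, hne i0 hi0]
      refine ⟨(q + 1) * c i0 + q * e i0, ?_⟩
      rw [hqj]
      push_cast
      ring
    have h5 : 3 * j + 1 ∣ b * t i0 := by exact_mod_cast h4
    have h6 : Nat.Coprime (3 * j + 1) (t i0) := by
      rcases ht i0 with h | h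
      · rw [h]
        exact Nat.coprime_one_right _
      · rw [h, Nat.coprime_comm, Nat.Prime.coprime_iff_not_dvd Nat.prime_three]
        omega
    exact h6.dvd_of_dvd_mul_right h5
  obtain ⟨β, hβ⟩ := hqb
  obtain ⟨K, hK⟩ : ∃ K, q ^ 3 = K + 5 := ⟨q ^ 3 - 5, by
    have : 5 ^ 3 ≤ q ^ 3 := Nat.pow_le_pow_left hq5 3
    omega⟩
  have hKz : (q : ℤ) ^ 3 = K + 5 := by exact_mod_cast hK
  have hβs : 2 * β * s = q * K := by
    have h4 : ((3 * j + 1) * (2 * β * s) : ℤ) = (3 * j + 1) * (q * K) := by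
      have h5 : ((q : ℕ) : ℤ) = 3 * j + 2 := by rw [hqj]; push_cast; ring
      have h6 : ((b : ℕ) : ℤ) = (3 * j + 1) * β := by rw [hβ]; push_cast; ring
      rw [hKz] at h3
      rw [h6] at h3
      have h7 : (q : ℤ) - 1 = 3 * j + 1 := by rw [h5]; ring
      rw [h7] at h3
      linear_combination h3
    have h5 : (3 * j + 1) * (2 * β * s) = (3 * j + 1) * (q * K) := by exact_mod_cast h4
    exact Nat.eq_of_mul_eq_mul_left (by omega) h5
  have hK0 : 0 < K := by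
    have : 5 ^ 3 ≤ q ^ 3 := Nat.pow_le_pow_left hq5 3
    omega
  have hβ0 : 0 < β := by
    rcases Nat.eq_zero_or_pos β with h | h
    · rw [h, mul_zero, zero_mul] at hβs
      have : 0 < q * K := Nat.mul_pos (by omega) hK0
      omega
    · exact h
  obtain ⟨g, hg⟩ := Nat.gcd_dvd_left β q
  have hPc : ∀ i, E i → c i ≠ 0 → Nat.gcd β q ∣ c i := by
    intro i hi h0
    have h4 : ((Nat.gcd β q : ℕ) : ℤ) ∣ (c i : ℤ) := by
      obtain ⟨z1, hz1⟩ := Nat.gcd_dvd_left β q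
      obtain ⟨z2, hz2⟩ := Nat.gcd_dvd_right β q
      have h5 := hne i hi
      rw [hn i hi h0, hβ] at h5
      have h6 : (β : ℤ) = (Nat.gcd β q : ℕ) * z1 := by exact_mod_cast hz1
      have h7 : (q : ℤ) = (Nat.gcd β q : ℕ) * z2 := by exact_mod_cast hz2
      refine ⟨z2 * q * c i + z2 * (q - 1) * e i - (3 * j + 1) * z1 * t i, ?_⟩
      push_cast at h5
      linear_combination (q * c i + (q - 1) * e i) * h7 - (3 * j + 1) * (t i) * h6 + h5
    exact_mod_cast h4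
  have hPne : Nat.gcd β q ≠ q := by
    intro h
    have h4 := hPc i0 hi0 hc0
    rw [h] at h4
    have h5 : q ≤ c i0 := Nat.le_of_dvd (Nat.pos_of_ne_zero hc0) h4
    have h6 := hterm i0 hi0
    have h7 : (q : ℤ) ≤ c i0 := by exact_mod_cast h5
    have h8 : (5 : ℤ) ≤ q := by exact_mod_cast hq5
    nlinarith
  have hgq := coprime_div hp hpk hβ0 hg hPne
  have hg1 : g ∣ (q ^ 3 + 1) * (q + 1) := by
    have h4 : (q ^ 3 + 1) * (q ^ 3 * (q ^ 2 - 1)) = (3 * j + 1) * ((q ^ 3 + 1) * (q + 1) * q ^ 3) := by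
      have h5 : q ^ 2 - 1 = (3 * j + 1) * (q + 1) := by
        have : q ^ 2 = (3 * j + 1) * (q + 1) + 1 := by rw [hqj]; ring
        omega
      rw [h5]
      ring
    rw [h4, hβ] at hb
    have h5 : β ∣ (q ^ 3 + 1) * (q + 1) * q ^ 3 := Nat.dvd_of_mul_dvd_mul_left (by omega) hb
    exact (hgq.pow_right 3).dvd_of_dvd_mul_right ((Dvd.intro_left _ hg.symm).trans h5)
  have hg2 : g ∣ K := by
    have h4 : g ∣ q * K := by
      rw [← hβs]
      exact ((Dvd.intro_left _ hg.symm : g ∣ β).mul_left 2).mul_right s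
    exact hgq.dvd_of_dvd_mul_left h4
  have hg12 := dvd_12 hK (dvd_36 hK hg1 hg2) hg2
  have hgle := Nat.le_of_dvd (by norm_num) hg12
  -- the bound
  have hPs : 2 * ((Nat.gcd β q : ℕ) : ℤ) * s ≤ 3 * (q ^ 2 - q) := by
    rw [← h1, hsz, Finset.mul_sum, Finset.mul_sum, Finset.mul_sum]
    refine Finset.sum_le_sum fun i _ => ?_
    split_ifs with hi
    · by_cases h0 : c i = 0
      · rw [h0]
        simp
      · have h4 := Nat.le_of_dvd (Nat.pos_of_ne_zero h0) (hPc i hi h0)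
        have h5 : t i ≤ 3 := by rcases ht i with h | h <;> omega
        have h6 : Nat.gcd β q * (c i * t i) ≤ c i * (c i * 3) :=
          Nat.mul_le_mul h4 (Nat.mul_le_mul_left _ h5)
        have h7 : ((Nat.gcd β q * (c i * t i) : ℕ) : ℤ) ≤ ((c i * (c i * 3) : ℕ) : ℤ) := by
          exact_mod_cast h6
        push_cast at h7 ⊢
        linarith
    · simp
  have hbig : (q : ℤ) * K ≤ 36 * (q ^ 2 - q) := by
    have h4 : ((2 * β * s : ℕ) : ℤ) = ((q * K : ℕ) : ℤ) := by rw [hβs]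
    have h5 : (β : ℤ) = (Nat.gcd β q : ℕ) * g := by exact_mod_cast hg
    have h6 : (g : ℤ) ≤ 12 := by exact_mod_cast hgle
    have h7 : (0 : ℤ) ≤ 2 * ((Nat.gcd β q : ℕ) : ℤ) * s := by positivity
    push_cast at h4
    rw [← h4]
    calc 2 * (β : ℤ) * s = (2 * ((Nat.gcd β q : ℕ) : ℤ) * s) * g := by rw [h5]; push_cast; ring
      _ ≤ (2 * ((Nat.gcd β q : ℕ) : ℤ) * s) * 12 := mul_le_mul_of_nonneg_left h6 h7
      _ ≤ _ := by linarith
  have hq5' : q = 5 := by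
    have h4 : (q : ℤ) * K ≤ q * (36 * (q - 1)) := by linarith
    have h5 : (K : ℤ) ≤ 36 * (q - 1) := le_of_mul_le_mul_left h4 (by positivity)
    by_contra hcon
    have h6 : 8 ≤ q := by omega
    have h7 : (8 : ℤ) ≤ q := by exact_mod_cast h6
    nlinarith [mul_nonneg (sub_nonneg.2 h7) (sub_nonneg.2 h7)]
  have hj : j = 1 := by omega
  clear_value q
  subst hq5'
  subst hj
  have hK' : K = 120 := by omega
  subst hK'
  have hP1 : Nat.gcd β 5 = 1 := by
    rcases (Nat.dvd_prime (by norm_num : Nat.Prime 5)).1 (Nat.gcd_dvd_right β 5) with h | h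
    · exact h
    · exact absurd h hPne
  rw [hP1, one_mul] at hg
  rw [← hg] at hg12
  rw [hP1] at hPs
  have hs30 : s ≤ 30 := by
    have : (s : ℤ) ≤ 30 := by
      push_cast at hPs
      linarith
    exact_mod_cast this
  have hβ12 : β ≤ 12 := Nat.le_of_dvd (by norm_num) hg12
  have hfin : β = 12 ∧ s = 25 := by
    interval_cases β <;> omega
  obtain ⟨rfl, hs25⟩ := hfin
  have h4 : (10 : ℤ) ∣ ∑ i, (if E i then 3 * ((c i : ℤ) * c i) - (c i : ℤ) * t i else 0) := by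
    refine Finset.dvd_sum fun i _ => ?_
    split_ifs with hi
    · by_cases h0 : c i = 0
      · rw [h0]
        simp
      · have h5 := hterm i hi
        have h6 := hne i hi
        rw [hn i hi h0, hβ] at h6
        have h7 : c i ≤ 3 := by
          by_contra hcon
          have h8 : (4 : ℤ) ≤ c i := by
            have : 4 ≤ c i := by omega
            exact_mod_cast this
          push_cast at h5
          nlinarith
        push_cast at h6
        have h8 : c i = 1 ∨ c i = 2 ∨ c i = 3 := by omega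
        rcases h8 with h8 | h8 | h8 <;> rcases ht i with h9 | h9 <;> rw [h8, h9] at h6 ⊢ <;>
          push_cast at h6 ⊢ <;> first | (exfalso; omega) | norm_num
    · exact dvd_zero _
  have h5 : ∑ i, (if E i then 3 * ((c i : ℤ) * c i) - (c i : ℤ) * t i else 0) = 5 := by
    have h6 : ∀ i, (if E i then 3 * ((c i : ℤ) * c i) - (c i : ℤ) * t i else 0) =
        3 * (if E i then (c i : ℤ) * c i else 0) - (if E i then (c i : ℤ) * t i else 0) := by
      intro i
      split_ifs <;> ring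
    rw [Finset.sum_congr rfl fun i _ => h6 i, Finset.sum_sub_distrib, ← Finset.mul_sum, ← hsz, hs25]
    push_cast at h1 ⊢
    linarith
  rw [h5] at h4
  norm_num at h4

theorem not_four {q m : ℕ} (hq : 3 ≤ q) (h : q - 1 ∣ m) :
    m ≠ 1 ∧ m ≠ q ^ 2 - q + 1 ∧ m ≠ q * (q ^ 2 - q + 1) ∧ m ≠ q ^ 3 := by
  obtain ⟨j, rfl⟩ : ∃ j, q = j + 1 := ⟨q - 1, by omega⟩
  rw [show j + 1 - 1 = j by omega] at h
  have hN : (j + 1) ^ 2 - (j + 1) + 1 = j * (j + 1) + 1 := by
    have : (j + 1) ^ 2 = j * (j + 1) + (j + 1) := by ring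
    omega
  have key : ∀ z, m = j * z + 1 → False := by
    intro z hz
    rw [hz] at h
    have h1 := (Nat.dvd_add_right (Dvd.intro z rfl)).1 h
    have := Nat.dvd_one.1 h1
    omega
  rw [hN]
  refine ⟨fun h1 => key 0 (by rw [h1]; ring), fun h1 => key _ h1,
    fun h1 => key ((j + 1) ^ 2 + 1) (by rw [h1]; ring), fun h1 => key (j ^ 2 + 3 * j + 3) (by rw [h1]; ring)⟩

theorem eq_three {q : ℕ} (hq : 3 ≤ q) (h : q - 1 ∣ q ^ 3 + 1) : q = 3 := by
  obtain ⟨j, rfl⟩ : ∃ j, q = j + 1 := ⟨q - 1, by omega⟩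
  rw [show j + 1 - 1 = j by omega] at h
  have h1 : (j + 1) ^ 3 + 1 = j * (j ^ 2 + 3 * j + 3) + 2 := by ring
  rw [h1] at h
  have h2 := (Nat.dvd_add_right (Dvd.intro _ rfl)).1 h
  have := Nat.le_of_dvd (by norm_num) h2
  omega

theorem not_dvd_succ {q : ℕ} (hq : 3 ≤ q) (h : q ∣ q ^ 3 + 1) : False := by
  have h1 := (Nat.dvd_add_right (dvd_pow_self q (by norm_num : 3 ≠ 0))).1 h
  have := Nat.dvd_one.1 h1
  omega

theorem six_card {q a : ℕ} (hq : 3 ≤ q) (h1 : q - 1 ∣ a) (h2 : q ∣ a) :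
    ({1, q ^ 2 - q + 1, q * (q ^ 2 - q + 1), q ^ 3, q ^ 3 + 1, a} : Finset ℕ).card = 6 := by
  obtain ⟨n1, n2, n3, n4⟩ := not_four hq h1
  have n5 : a ≠ q ^ 3 + 1 := fun h => not_dvd_succ hq (h ▸ h2)
  obtain ⟨j, rfl⟩ : ∃ j, q = j + 3 := ⟨q - 3, by omega⟩
  have hN : (j + 3) ^ 2 - (j + 3) + 1 = j ^ 2 + 5 * j + 7 := by
    have : (j + 3) ^ 2 = j ^ 2 + 5 * j + 6 + (j + 3) := by ring
    omega
  rw [hN] at n2 n3 ⊢
  have e1 : (j + 3) * (j ^ 2 + 5 * j + 7) = j ^ 3 + 8 * j ^ 2 + 22 * j + 21 := by ring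
  have e2 : (j + 3) ^ 3 = j ^ 3 + 9 * j ^ 2 + 27 * j + 27 := by ring
  rw [e1] at n3 ⊢
  rw [e2] at n4 n5 ⊢
  rw [Finset.card_insert_of_notMem, Finset.card_insert_of_notMem, Finset.card_insert_of_notMem,
    Finset.card_insert_of_notMem, Finset.card_insert_of_notMem, Finset.card_singleton]
  all_goals
    simp only [Finset.mem_insert, Finset.mem_singleton, not_or]
  · omega
  · omega
  · refine ⟨?_, ?_, ?_⟩ <;> first | exact n3.symm | exact n2.symm | nlinarith [sq_nonneg j]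
  · refine ⟨?_, ?_, ?_, ?_⟩ <;> first | exact n3.symm | exact n2.symm | nlinarith [sq_nonneg j]
  · refine ⟨?_, ?_, ?_, ?_, ?_⟩ <;> first | exact n1.symm | omega | nlinarith [sq_nonneg j]

end Cfsg.Agent.H664.Eight.U3Arith
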