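import Cfsg.Agent.H664.Eight.CuspSum
import Cfsg.Agent.H664.R1.U3Char
import Cfsg.Agent.H664.R1.U3Deg

/-!
# The cuspidal part of the Gelfand-Graev character of `PGU(3,q)` (helper664)
-/

set_option autoImplicit false
set_option linter.unusedSimpArgs false
set_option linter.unusedSectionVars false

namespace Cfsg.Agent.H664.R1.U3

open Matrix Cfsg Cfsg.Agent.LieRecognition.PSUThreeSylow Cfsg.Agent.LieClassical.HermBasic
open Cfsg.Agent.Characters.Core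
open scoped ComplexConjugate

/-- The homomorphisms trivial on a subgroup. -/
theorem card_hom_trivial {A : Type*} [CommGroup A] [Finite A] (K : Subgroup A) :
    Nat.card {lam : A →* ℂˣ // ∀ a ∈ K, lam a = 1} = K.index := by
  show _ = Nat.card (A ⧸ K)
  rw [← CommGroup.card_monoidHom_of_hasEnoughRootsOfUnity (A ⧸ K) ℂ]
  refine Nat.card_congr ⟨fun lam => QuotientGroup.lift K lam.1 lam.2,
    fun μ => ⟨μ.comp (QuotientGroup.mk' K), fun a ha => ?_⟩, fun lam => ?_, fun μ => ?_⟩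
  · show μ (a : A ⧸ K) = 1
    rw [(QuotientGroup.eq_one_iff a).2 ha, map_one]
  · apply Subtype.ext
    ext a
    rfl
  · ext a
    rfl

section general

variable {F : Type*} [Field F] {σ : F →+* F} [hσ : Fact (∀ x, σ (σ x) = x)]

/-- Diagonal elements modulo scalars. -/
theorem pr_dg (t s : F) (ht : t ≠ 0) (hs : s * σ s = 1) :
    pr σ (dg t s ht hs) =
      (del σ (Units.mk0 (t / s) (div_ne_zero ht (left_ne_zero_of_mul_eq_one hs))) : PG σ) := by
  have hs0 : s ≠ 0 := left_ne_zero_of_mul_eq_one hs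
  symm
  rw [del_apply]
  refine (QuotientGroup.eq (s := Sc σ)).2 ?_
  have h1 : (dg (t / s) 1 (div_ne_zero ht hs0) (show (1 : F) * σ 1 = 1 by rw [map_one, one_mul]))⁻¹ *
      dg t s ht hs = dg s s hs0 hs := by
    rw [inv_mul_eq_iff_eq_mul, dg_mul]
    apply mat_inj
    rw [mat_dg, mat_dg]
    have : t / s * s = t := by field_simp
    simp [this]
  have h2 : (dg s s hs0 hs : GUJ σ) ∈ Sc σ := by
    refine ⟨dg_mem _ _ _ _, rfl, ?_⟩
    rw [mat_dg]
    show s = (σ s)⁻¹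
    exact eq_inv_of_mul_eq_one_left hs
  show (dg ((Units.mk0 (t / s) (div_ne_zero ht hs0) : Fˣ) : F) 1 _ _)⁻¹ * dg t s ht hs ∈ Sc σ
  rw [← h1] at h2
  exact h2

/-- The character `τ` of the Borel subgroup. -/
theorem exists_tau2 (σ : F →+* F) [hσ : Fact (∀ x, σ (σ x) = x)] :
    ∃ τ : (spP σ).B →* Fˣ, (∀ s, τ (del σ s) = s) ∧ ∀ b, τ b = 1 ↔ (b : PG σ) ∈ (spP σ).U := by
  obtain ⟨τ, hτ⟩ := exists_tauP σ
  have h1 : ∀ s, τ (del σ s) = s := by
    intro s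
    apply Units.ext
    refine (hτ _ (dg_mem _ _ _ _).1 (del σ s).2).trans ?_
    rw [mat_dg]
    simp
  have h2 : ∀ b : (spP σ).B, (b : PG σ) ∈ (spP σ).U → τ b = 1 := by
    rintro ⟨b, hbB⟩ hbU
    have hbU' : b ∈ (Un σ).map (pr σ) := hbU
    obtain ⟨u, hu, hub⟩ := hbU'
    subst hub
    apply Units.ext
    refine (hτ u hu.1 hbB).trans ?_
    rw [hu.2.1, hu.2.2.1, map_one, mul_one, Units.val_one]
  refine ⟨τ, h1, fun b => ⟨fun h => ?_, h2 b⟩⟩
  obtain ⟨u, hu, t, ht, hb⟩ := (spP σ).dec b b.2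
  obtain ⟨s, hs⟩ := exists_del ht
  have h3 : b = ⟨u, (spP σ).UB hu⟩ * del σ s := Subtype.ext (by rw [hb, ← hs]; rfl)
  rw [h3, map_mul, h1, h2 ⟨u, (spP σ).UB hu⟩ hu, one_mul] at h
  rw [h3, h, map_one, mul_one]
  exact hu

end general

section finite

variable {F : Type*} [Field F] [Fintype F] {q : ℕ} {σ : F →+* F} [hσ : Fact (∀ x, σ (σ x) = x)]

/-- A linear character of the unipotent radical in general position. -/
theorem exists_thetaP (hF : Fintype.card F = q ^ 2) (hs : ∀ x, σ x = x ^ q) :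
    ∃ θ : (spP σ).U →* ℂˣ, θ ≠ 1 ∧ (∀ x : (spP σ).U, (x : PG σ) ∈ XP σ → θ x = 1) ∧
      ∀ t, t ∈ (spP σ).T → t ≠ 1 →
        ∃ (v : (spP σ).U) (h : t⁻¹ * (v : PG σ) * t ∈ (spP σ).U), θ v ≠ θ ⟨_, h⟩ := by
  classical
  obtain ⟨ψ, -, hψ⟩ := OddOrderCharacters.PrimeTI.exists_hom_ne_one
    (G := Multiplicative F) ⟨⟨fun a b => mul_comm a b⟩⟩ ⊥
    (w := Multiplicative.ofAdd (1 : F)) (by
      rw [Subgroup.mem_bot]
      intro h
      have : (1 : F) = 0 := congrArg Multiplicative.toAdd h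
      exact one_ne_zero this)
  obtain ⟨θ, hθ⟩ := exists_liftHom (Sc σ) (Un σ) (ψ.comp (coord σ)) (by
    intro b hb
    have : b = 1 := Subtype.ext (Un_disj b.2 hb)
    rw [this, map_one])
  have hθ' : ∀ (a b : F) (h : b + σ b + a * σ a = 0),
      θ ⟨pr σ (un a b h), _, un_mem _ _ _, rfl⟩ = ψ (Multiplicative.ofAdd a) := by
    intro a b h
    have := hθ ⟨un a b h, un_mem _ _ _⟩ ⟨un a b h, un_mem _ _ _, rfl⟩
    rw [this]
    rfl
  refine ⟨θ, ?_, ?_, ?_⟩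
  · intro h
    obtain ⟨b, hb⟩ := exists_snd (σ := σ) hF hs 1
    apply hψ
    rw [← hθ' 1 b hb, h]
    rfl
  · rintro ⟨x, hxU⟩ ⟨z, ⟨hz, h0⟩, hzx⟩
    obtain ⟨a, b, h, rfl⟩ := exists_un hz
    rw [mat_un] at h0
    have ha : a = 0 := by simpa using h0
    subst ha
    have e := hθ' 0 b h
    have : (⟨x, hxU⟩ : (spP σ).U) = ⟨pr σ (un 0 b h), _, un_mem _ _ _, rfl⟩ := Subtype.ext hzx.symm
    rw [this]
    exact e.trans (map_one ψ)
  rintro _ ⟨g, hg, rfl⟩ hne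
  obtain ⟨t, s, ht, hs', rfl⟩ := exists_dg hg
  have hs0 : s ≠ 0 := left_ne_zero_of_mul_eq_one hs'
  have hc : t * σ s ≠ 1 := by
    intro h
    apply hne
    have h1 : t = s := by
      have : t * (s * σ s) = s := by linear_combination s * h
      rwa [hs', mul_one] at this
    subst h1
    refine (QuotientGroup.eq_one_iff _).2 ⟨dg_mem _ _ _ _, rfl, ?_⟩
    rw [mat_dg]
    show t = (σ t)⁻¹
    exact eq_inv_of_mul_eq_one_left hs'
  set a : F := 1 / (t * σ s - 1) with ha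
  obtain ⟨b, hb⟩ := exists_snd (σ := σ) hF hs a
  have hconj := dg_conj_un t s ht hs' a b hb (conj_rel hs' hb)
  set v := un (t * σ s * a) (t * σ t * b) (conj_rel hs' hb) with hv
  have hvU : pr σ v ∈ (spP σ).U := ⟨v, un_mem _ _ _, rfl⟩
  have h2 : (pr σ (dg t s ht hs'))⁻¹ * pr σ v * pr σ (dg t s ht hs') = pr σ (un a b hb) := by
    rw [← hconj, ← map_inv, ← map_mul, ← map_mul]
    congr 1
    group
  have hmem : (pr σ (dg t s ht hs'))⁻¹ * pr σ v * pr σ (dg t s ht hs') ∈ (spP σ).U := by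
    rw [h2]
    exact ⟨_, un_mem _ _ _, rfl⟩
  refine ⟨⟨pr σ v, hvU⟩, hmem, ?_⟩
  have e1 : θ ⟨pr σ v, hvU⟩ = ψ (Multiplicative.ofAdd (t * σ s * a)) := hθ' _ _ _
  have e2 : θ ⟨(pr σ (dg t s ht hs'))⁻¹ * pr σ v * pr σ (dg t s ht hs'), hmem⟩ =
      ψ (Multiplicative.ofAdd a) := by
    rw [← hθ' a b hb]
    congr 1
    exact Subtype.ext h2
  show θ ⟨pr σ v, hvU⟩ ≠
    θ ⟨(pr σ (dg t s ht hs'))⁻¹ * pr σ v * pr σ (dg t s ht hs'), hmem⟩
  rw [e1, e2]
  intro h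
  apply hψ
  have h3 : Multiplicative.ofAdd (1 : F) = Multiplicative.ofAdd (t * σ s * a) *
      (Multiplicative.ofAdd a)⁻¹ := by
    apply Multiplicative.toAdd.injective
    show (1 : F) = t * σ s * a + -a
    have h4 : t * σ s - 1 ≠ 0 := sub_ne_zero.2 hc
    rw [ha]
    field_simp
    ring
  rw [h3, map_mul, map_inv, h, mul_inv_cancel]

/-- The invariant characters. -/
theorem inv_iff (hs : ∀ x, σ x = x ^ q) {τ : (spP σ).B →* Fˣ}
    (h1 : ∀ s, τ (del σ s) = s) (h2 : ∀ b, τ b = 1 ↔ (b : PG σ) ∈ (spP σ).U) (lam : Fˣ →* ℂˣ) :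
    (spP σ).Inv (lam.comp τ) ↔ ∀ a ∈ (powMonoidHom (q + 1) : Fˣ →* Fˣ).range, lam a = 1 := by
  constructor
  · rintro h _ ⟨a, rfl⟩
    have := inv_pow (σ := σ) hs h a
    show lam (a ^ (q + 1)) = 1
    rw [map_pow]
    have h3 : (lam.comp τ) (del σ a) = lam a := by
      show lam (τ (del σ a)) = lam a
      rw [h1]
    rwa [h3] at this
  · intro h
    refine ⟨fun b hb => ?_, fun t ht => ?_⟩
    · show lam (τ b) = 1
      rw [(h2 b).2 hb, map_one]
    · obtain ⟨s, rfl⟩ := exists_del ht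
      show lam (τ _) = lam (τ _)
      have e1 : (⟨((del σ s : (spP σ).B) : PG σ), (spP σ).TB ht⟩ : (spP σ).B) = del σ s :=
        Subtype.ext rfl
      have e2 : (⟨(spP σ).w⁻¹ * ((del σ s : (spP σ).B) : PG σ) * (spP σ).w,
          (spP σ).TB ((spP σ).wT _ ht)⟩ : (spP σ).B) = del σ (Units.map (σ : F →* F) s)⁻¹ :=
        Subtype.ext (w_conj_del s)
      have h3 : Units.map (σ : F →* F) s = s ^ q := by
        apply Units.ext
        rw [Units.val_pow_eq_pow_val]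
        exact hs s
      rw [e1, e2, h1, h1, h3]
      have h4 := h (s ^ (q + 1)) ⟨s, rfl⟩
      rw [pow_succ, map_mul] at h4
      rw [map_inv]
      exact eq_inv_of_mul_eq_one_right h4

theorem card_inv (hF : Fintype.card F = q ^ 2) (hs : ∀ x, σ x = x ^ q)
    {τ : (spP σ).B →* Fˣ}
    (h1 : ∀ s, τ (del σ s) = s) (h2 : ∀ b, τ b = 1 ↔ (b : PG σ) ∈ (spP σ).U) :
    Nat.card {lam : Fˣ →* ℂˣ // (spP σ).Inv (lam.comp τ)} = q + 1 := by
  rw [Nat.card_congr (Equiv.subtypeEquivRight (inv_iff hs h1 h2)), card_hom_trivial,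
    IsCyclic.index_powMonoidHom_range, card_units_eq hF]
  exact Nat.gcd_eq_right ⟨q - 1, rfl⟩

/-- The part of the torus in `PSU(3,q)`. -/
def Ker (σ : F →+* F) [hσ : Fact (∀ x, σ (σ x) = x)] : Subgroup Fˣ :=
  (S σ).comap ((spP σ).B.subtype.comp (del σ))

theorem mem_Ker {s : Fˣ} : s ∈ Ker σ ↔ ((del σ s : (spP σ).B) : PG σ) ∈ S σ := Iff.rfl

theorem mk_eq_one {u : PG σ} (hu : u ∈ S σ) : (QuotientGroup.mk' (S σ)) u = 1 :=
  (QuotientGroup.eq_one_iff u).2 hu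

/-- The torus covers the quotient. -/
theorem surj_quot : Function.Surjective
    ((QuotientGroup.mk' (S σ)).comp ((spP σ).B.subtype.comp (del σ))) := by
  have hB : ∀ b : (spP σ).B, ∃ s : Fˣ, (QuotientGroup.mk' (S σ)) (del σ s : PG σ) =
      (QuotientGroup.mk' (S σ)) (b : PG σ) := by
    intro b
    obtain ⟨u, hu, t, ht, hb⟩ := (spP σ).dec b b.2
    obtain ⟨s, hs⟩ := exists_del ht
    refine ⟨s, ?_⟩
    rw [hb, map_mul, hs, mk_eq_one (U_le_S hu), one_mul]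
  intro x
  obtain ⟨g, rfl⟩ := QuotientGroup.mk'_surjective _ x
  by_cases hg : g ∈ (spP σ).B
  · obtain ⟨s, hs⟩ := hB ⟨g, hg⟩
    exact ⟨s, hs⟩
  · obtain ⟨b, hb, c, hc, hg'⟩ := (spP σ).big g hg
    obtain ⟨s, hs⟩ := hB ⟨b, hb⟩
    obtain ⟨t, ht⟩ := hB ⟨c, hc⟩
    refine ⟨s * t, ?_⟩
    rw [map_mul, hg', map_mul, map_mul, mk_eq_one (w_mem_S (σ := σ)), mul_one]
    exact congrArg₂ (· * ·) hs ht

theorem index_Ker : (Ker σ).index = (S σ).index := by
  have h1 := Subgroup.index_ker ((QuotientGroup.mk' (S σ)).comp ((spP σ).B.subtype.comp (del σ)))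
  rw [MonoidHom.range_eq_top.2 surj_quot, Subgroup.card_top] at h1
  rw [← MonoidHom.comap_ker, QuotientGroup.ker_mk'] at h1
  exact h1

/-- The linear characters of `PGU(3,q)`. -/
theorem lin_iff (hF : Fintype.card F = q ^ 2) (hq : 3 ≤ q) (hs : ∀ x, σ x = x ^ q)
    {τ : (spP σ).B →* Fˣ}
    (h1 : ∀ s, τ (del σ s) = s) (h2 : ∀ b, τ b = 1 ↔ (b : PG σ) ∈ (spP σ).U) (lam : Fˣ →* ℂˣ) :
    (∃ η : PG σ →* ℂˣ, ∀ b : (spP σ).B, η b = lam (τ b)) ↔ ∀ a ∈ Ker σ, lam a = 1 := by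
  constructor
  · rintro ⟨η, hη⟩ a ha
    rw [← h1 a, ← hη]
    have := perfect (σ := σ) hF hq hs (η.comp (S σ).subtype)
    exact DFunLike.congr_fun this ⟨_, ha⟩
  · intro h
    set φ := (QuotientGroup.mk' (S σ)).comp ((spP σ).B.subtype.comp (del σ)) with hφ
    have hker : φ.ker ≤ lam.ker := by
      intro a ha
      rw [hφ, ← MonoidHom.comap_ker, QuotientGroup.ker_mk'] at ha
      exact h a ha
    obtain ⟨μ, hμ⟩ : ∃ μ : (PG σ ⧸ S σ) →* ℂˣ, ∀ a, μ (φ a) = lam a :=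
      ⟨(φ.liftOfSurjective surj_quot) ⟨lam, hker⟩, fun a =>
        MonoidHom.liftOfRightInverse_comp_apply _ _ _ _ _⟩
    refine ⟨μ.comp (QuotientGroup.mk' (S σ)), fun b => ?_⟩
    rw [← hμ]
    show μ (QuotientGroup.mk' (S σ) b) = μ (QuotientGroup.mk' (S σ) (del σ (τ b) : PG σ))
    congr 1
    obtain ⟨u, hu, t, ht, hb⟩ := (spP σ).dec b b.2
    obtain ⟨s, hs⟩ := exists_del ht
    have h3 : b = ⟨u, (spP σ).UB hu⟩ * del σ s := Subtype.ext (by rw [hb, ← hs]; rfl)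
    have h4 : τ b = s := by
      rw [h3, map_mul, h1, (h2 ⟨u, (spP σ).UB hu⟩).2 hu, one_mul]
    rw [h4, hb, map_mul, hs, mk_eq_one (U_le_S hu), one_mul]

theorem card_lin (hF : Fintype.card F = q ^ 2) (hq : 3 ≤ q) (hs : ∀ x, σ x = x ^ q)
    {τ : (spP σ).B →* Fˣ}
    (h1 : ∀ s, τ (del σ s) = s) (h2 : ∀ b, τ b = 1 ↔ (b : PG σ) ∈ (spP σ).U) :
    Nat.card {lam : Fˣ →* ℂˣ // ∃ η : PG σ →* ℂˣ, ∀ b : (spP σ).B, η b = lam (τ b)} =
      (S σ).index := by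
  rw [Nat.card_congr (Equiv.subtypeEquivRight (lin_iff hF hq hs h1 h2)), card_hom_trivial,
    index_Ker]

/-- The index of `PSU(3,q)` in `PGU(3,q)`. -/
theorem index_S (hF : Fintype.card F = q ^ 2) (hq : 3 ≤ q) (hs : ∀ x, σ x = x ^ q) :
    (S σ).index = 1 ∨ ((S σ).index = 3 ∧ 3 ∣ q - 2) := by
  rw [← index_Ker]
  have hcard := card_units_eq (F := F) hF
  -- the elements `t ^ (q - 2)`
  have hA : ∀ t : Fˣ, t ^ (q - 2) ∈ Ker σ := by
    intro t
    have h0 : (t : F) ≠ 0 := t.ne_zero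
    have h0' : σ (t : F) ≠ 0 := (map_ne_zero σ).2 h0
    have h1 := dgS_mem (σ := σ) (t : F) h0 (dgS_rel h0)
    have h2 : pr σ (dg (t : F) (σ (t : F) / (t : F)) h0 (dgS_rel h0)) ∈ S σ := ⟨_, h1, rfl⟩
    rw [pr_dg] at h2
    have h3 : Units.mk0 ((t : F) / (σ (t : F) / (t : F))) (div_ne_zero h0
        (left_ne_zero_of_mul_eq_one (dgS_rel (σ := σ) h0))) * t ^ (q - 2) = 1 := by
      apply Units.ext
      rw [Units.val_mul, Units.val_mk0, Units.val_pow_eq_pow_val, Units.val_one, hs]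
      have h4 : (t : F) ^ q = (t : F) ^ (q - 2) * t ^ 2 := by
        rw [← pow_add]
        congr 1
        omega
      have h5 : (t : F) ^ (q - 2) ≠ 0 := pow_ne_zero _ h0
      rw [h4]
      field_simp
    have h4 := (Ker σ).inv_mem (show Units.mk0 ((t : F) / (σ (t : F) / (t : F))) (div_ne_zero h0
        (left_ne_zero_of_mul_eq_one (dgS_rel (σ := σ) h0))) ∈ Ker σ from h2)
    rwa [← eq_inv_of_mul_eq_one_right h3] at h4
  have hB : ∀ t : Fˣ, t ^ 3 ∈ Ker σ := by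
    intro t
    have h1 : t ^ 3 * (t ^ (q - 2)) ^ (q + 2) = 1 := by
      rw [← pow_mul, ← pow_add]
      have h2 : 3 + (q - 2) * (q + 2) = (q + 1) * (q - 1) := by
        obtain ⟨r, rfl⟩ : ∃ r, q = r + 3 := ⟨q - 3, by omega⟩
        rw [show r + 3 - 2 = r + 1 by omega, show r + 3 - 1 = r + 2 by omega]
        ring
      rw [h2, ← hcard]
      exact pow_card_eq_one'
    have h2 : t ^ 3 = ((t ^ (q - 2)) ^ (q + 2))⁻¹ := eq_inv_of_mul_eq_one_left h1
    rw [h2]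
    exact (Ker σ).inv_mem ((Ker σ).pow_mem (hA t) _)
  have hle : (powMonoidHom 3 : Fˣ →* Fˣ).range ≤ Ker σ := by
    rintro _ ⟨t, rfl⟩
    exact hB t
  have h3 : (Ker σ).index ∣ 3 := by
    have h4 := Subgroup.index_dvd_of_le hle
    rw [IsCyclic.index_powMonoidHom_range] at h4
    exact h4.trans (Nat.gcd_dvd_right _ _)
  rcases (Nat.dvd_prime Nat.prime_three).1 h3 with h4 | h4
  · exact Or.inl h4
  · refine Or.inr ⟨h4, ?_⟩
    by_contra hcon
    have hco : Nat.Coprime 3 (q - 2) := (Nat.Prime.coprime_iff_not_dvd Nat.prime_three).2 hcon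
    have htop : Ker σ = ⊤ := by
      rw [Subgroup.eq_top_iff']
      intro t
      have h5 : t = (t ^ 3) ^ (Nat.gcdA 3 (q - 2)) * (t ^ (q - 2)) ^ (Nat.gcdB 3 (q - 2)) := by
        have h6 := Nat.gcd_eq_gcd_ab 3 (q - 2)
        rw [hco] at h6
        rw [← zpow_natCast t 3, ← zpow_natCast t (q - 2), ← _root_.zpow_mul, ← _root_.zpow_mul,
          ← _root_.zpow_add,
          ← h6, Nat.cast_one, zpow_one]
      rw [h5]
      exact (Ker σ).mul_mem ((Ker σ).zpow_mem (hB t) _) ((Ker σ).zpow_mem (hA t) _)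
    rw [htop, Subgroup.index_top] at h4
    omega

end finite

end Cfsg.Agent.H664.R1.U3
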