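import Cfsg.Agent.H664.Eight.Base
import Cfsg.Agent.H664.Eight.U3Arith
import Cfsg.Agent.H664.Eight.U3Sum
import Cfsg.Agent.H664.R1.U3Iso
import Cfsg.Agent.H113.PSL.Pass

/-!
# Eight character degrees of `PSU(3,q)` (helper664)
-/

set_option autoImplicit false
set_option linter.unusedSimpArgs false
set_option linter.unusedSectionVars false

namespace Cfsg.Agent.H664.R1.U3

open Matrix Cfsg Cfsg.Agent.LieRecognition.PSUThreeSylow Cfsg.Agent.LieClassical.HermBasic
open Cfsg.Agent.Characters.Core Cfsg.Agent.H664.Eight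
open scoped ComplexConjugate

variable {F : Type*} [Field F] [Fintype F] {q : ℕ} {σ : F →+* F} [hσ : Fact (∀ x, σ (σ x) = x)]

/-- The degrees of the cuspidal characters. -/
theorem degree_cusp [Fintype (PG σ)] [Fintype (spP σ).U] (hF : Fintype.card F = q ^ 2) (hq : 3 ≤ q) (hs : ∀ x, σ x = x ^ q)
    {χ : PG σ → ℂ} (hχ : IsIrrCharacter (PG σ) χ) {θ : (spP σ).U →* ℂˣ} (hθ1 : θ ≠ 1)
    (hθX : ∀ x : (spP σ).U, (x : PG σ) ∈ XP σ → θ x = 1) {n c : ℕ} (hn : χ 1 = n)
    (hk : classInner (fun u : (spP σ).U => χ u) 1 = 0)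
    (hc : classInner (fun u : (spP σ).U => χ u) (fun u => (θ u : ℂ)) = c) :
    ∃ e : ℕ, (n : ℤ) = (q ^ 2 - 1) * c + q * (q - 1) * e := by
  have H := fus (σ := σ) hF hq hs
  obtain ⟨u, hu, huX⟩ := H.exists_u
  obtain ⟨x, hx, hx1⟩ := H.exists_x
  obtain ⟨n', m, k, a, b, h1, h2, h3, h4, h5, h6, h7, h8, h9⟩ := H.values hχ hx hx1 hu huX
  have hnn : n' = n := by
    rw [hn] at h1
    exact_mod_cast h1.symm
  subst hnn
  have hk0 : k = 0 := by
    rw [hk] at h4
    exact_mod_cast h4.symm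
  subst hk0
  have hcb : (c : ℤ) = - b := by
    have h10 := H.inner_theta (isIrr_isClassFunction hχ) hu huX θ hθ1 hθX
    rw [hc, hk, h3, zero_sub] at h10
    exact_mod_cast h10
  have hq0 : (q : ℤ) ≠ 0 := by
    have : 0 < q := by omega
    exact_mod_cast this.ne'
  have hm : (m : ℤ) = (q ^ 2 - 1) * c := by
    have h10 : (q : ℤ) * m = q * ((q ^ 2 - 1) * c) := by
      rw [hcb]
      push_cast at h6
      linear_combination -h6
    exact mul_left_cancel₀ hq0 h10
  have h11 : (n' : ℤ) - m = (q - 1) * (m - a) := by linear_combination -h5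
  have h12 : (q : ℤ) ∣ m - a := by
    have h13 : IsCoprime (q : ℤ) (q - 1) := ⟨1, -1, by ring⟩
    rw [h11] at h7
    exact h13.dvd_of_dvd_mul_left h7
  obtain ⟨e, he⟩ := h12
  have he0 : 0 ≤ e := by
    have h14 : (0 : ℤ) ≤ (q - 1) * (q * e) := by
      rw [← he, ← h11]
      have : (m : ℤ) ≤ n' := by exact_mod_cast h9
      linarith
    have h15 : (0 : ℤ) < (q - 1) * q := by
      have : (3 : ℤ) ≤ q := by exact_mod_cast hq
      nlinarith
    have h16 : (0 : ℤ) ≤ ((q - 1) * q) * e := by linarith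
    exact nonneg_of_mul_nonneg_right h16 h15
  obtain ⟨e', rfl⟩ := Int.eq_ofNat_of_zero_le he0
  refine ⟨e', ?_⟩
  have h17 : (n' : ℤ) = m + (q - 1) * (m - a) := by linarith
  rw [h17, he, hm]
  ring

/-- The degree of a character without fixed vectors. -/
theorem degree_noFix [Fintype (PG σ)] [Fintype (spP σ).U] (hF : Fintype.card F = q ^ 2) (hq : 3 ≤ q) (hs : ∀ x, σ x = x ^ q)
    {χ : PG σ → ℂ} (hχ : IsIrrCharacter (PG σ) χ) (h : NoFix (XP σ) χ) {n : ℕ} (hn : χ 1 = n) :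
    q * (q - 1) ∣ n := by
  have H := fus (σ := σ) hF hq hs
  obtain ⟨u, hu, huX⟩ := H.exists_u
  obtain ⟨x, hx, hx1⟩ := H.exists_x
  obtain ⟨n', m, k, a, b, h1, h2, h3, h4, h5, h6, h7, h8, h9⟩ := H.values hχ hx hx1 hu huX
  have hnn : n' = n := by
    rw [hn] at h1
    exact_mod_cast h1.symm
  subst hnn
  classical
  have := Fintype.ofFinite (XP σ)
  have hsX : ∑ z : XP σ, χ z = n' + (q - 1) * χ x := by
    have h1 : ∀ z : XP σ, χ z = (if z = 1 then (n' : ℂ) - χ x else 0) + χ x := by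
      intro z
      split_ifs with hz
      · rw [hz, Subgroup.coe_one, hn]; ring
      · rw [zero_add]
        obtain ⟨b, -, hb⟩ := H.f1 x hx hx1 (z : PG σ) z.2 (fun h => hz (Subtype.ext h))
        rw [← hb]
        exact isIrr_isClassFunction hχ _ _
    rw [Finset.sum_congr rfl fun z _ => h1 z, Finset.sum_add_distrib,
      Finset.sum_ite_eq' Finset.univ, if_pos (Finset.mem_univ _), Finset.sum_const,
      Finset.card_univ, nsmul_eq_mul, ← Nat.card_eq_fintype_card, H.cX]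
    ring
  rw [noFix_iff.1 h, h2] at hsX
  have h10 : (n' : ℤ) + (q - 1) * a = 0 := by exact_mod_cast hsX.symm
  have h11 : (q : ℤ) * m = 0 := by rw [h5, h10]
  have h12 : (m : ℤ) = 0 := by
    rcases mul_eq_zero.1 h11 with h13 | h13
    · have : q = 0 := by exact_mod_cast h13
      omega
    · exact h13
  rw [h12, sub_zero] at h7
  have h13 : IsCoprime (q : ℤ) (q - 1) := ⟨1, -1, by ring⟩
  have h14 : ((q : ℤ) - 1) ∣ n' := ⟨-a, by linear_combination h10⟩
  have h15 := h13.mul_dvd h7 h14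
  have h16 : ((q * (q - 1) : ℕ) : ℤ) ∣ n' := by
    push_cast [show 1 ≤ q by omega]
    exact h15
  exact_mod_cast h16

/-- Degrees of constituents of the restriction to `PSU(3,q)`. -/
theorem exists_res_degree {χ : PG σ → ℂ} (hχ : IsIrrCharacter (PG σ) χ) {n : ℕ} (hn : χ 1 = n) :
    ∃ m ∈ charDegrees (S σ), ∃ t, t ∣ (S σ).index ∧ m * t = n := by
  obtain ⟨φ, t, ht, h⟩ := Cfsg.Agent.H113.PSL.Pass.exists_irr_of_normal (S σ).subtype
    (by rw [Subgroup.range_subtype]; infer_instance) hχ hn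
  rw [Subgroup.range_subtype] at ht
  exact ⟨_, ⟨φ, rfl⟩, t, ht, h⟩

/-- **Eight character degrees of `PSU(3,q)`.** -/
theorem eight_S (hF : Fintype.card F = q ^ 2) (hq : 3 ≤ q) (hs : ∀ x, σ x = x ^ q) :
    Eight (S σ) := by
  classical
  have : Finite (GUJ σ) := inferInstance
  have : Finite (PG σ) := inferInstance
  have := Fintype.ofFinite (PG σ)
  have := Fintype.ofFinite (spP σ).U
  have := finite_irr (G := PG σ)
  have := Fintype.ofFinite (IrrCharacter (PG σ))
  by_contra hcon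
  -- the prime
  obtain ⟨p, k, hp, hpk⟩ : ∃ p k : ℕ, p.Prime ∧ q = p ^ k := by
    obtain ⟨p, -, n, hp, hn⟩ := FiniteField.card' F
    have h1 : q ∣ p ^ (n : ℕ) := by
      rw [← hn, hF]
      exact Dvd.intro _ (sq q).symm
    obtain ⟨k, -, hk⟩ := (Nat.dvd_prime_pow hp).1 h1
    exact ⟨p, k, hp, hk⟩
  have hqN0 : q ≤ q ^ 2 := by
    have : q * 1 ≤ q * q := Nat.mul_le_mul_left _ (by omega)
    have h2 : q ^ 2 = q * q := by ring
    omega
  obtain ⟨hN, hqN⟩ := exists_red (σ := σ) hF hq hs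
  have hps := exists_ps (σ := σ) hF hq hs
  have hst := (spS σ).steinberg
  rw [card_US hF hs] at hst
  have h1 := one_mem (S := S σ)
  have hidx := index_S (σ := σ) hF hq hs
  -- the degree divisible by `q (q - 1)`
  have hdivt : ∀ {m t n : ℕ}, t ∣ (S σ).index → m * t = n → (q - 1 ∣ n → q - 1 ∣ m) ∧
      (q ∣ n → q ∣ m) := by
    intro m t n ht hmt
    have hcop : Nat.Coprime (q - 1) t ∧ Nat.Coprime q t := by
      rcases hidx with h | ⟨h, h3⟩
      · rw [h] at ht
        rw [Nat.dvd_one.1 ht]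
        exact ⟨Nat.coprime_one_right _, Nat.coprime_one_right _⟩
      · rw [h] at ht
        have h4 : Nat.Coprime (q - 1) 3 := by
          rw [Nat.coprime_comm, Nat.Prime.coprime_iff_not_dvd Nat.prime_three]
          omega
        have h5 : Nat.Coprime q 3 := by
          rw [Nat.coprime_comm, Nat.Prime.coprime_iff_not_dvd Nat.prime_three]
          omega
        exact ⟨Nat.Coprime.coprime_dvd_right ht h4, Nat.Coprime.coprime_dvd_right ht h5⟩
    rw [← hmt]
    exact ⟨fun h => hcop.1.dvd_of_dvd_mul_right h, fun h => hcop.2.dvd_of_dvd_mul_right h⟩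
  obtain ⟨a, ha, ha1, haq⟩ : ∃ a ∈ charDegrees (S σ), q - 1 ∣ a ∧ q ∣ a := by
    obtain ⟨χ, hχ⟩ := exists_noFix (σ := σ) hF hq hs
    obtain ⟨n, -, hn⟩ := isIrr_apply_one χ.2
    have h2 := degree_noFix hF hq hs χ.2 hχ hn
    obtain ⟨m, hm, t, ht, hmt⟩ := exists_res_degree χ.2 hn
    obtain ⟨h3, h4⟩ := hdivt ht hmt
    exact ⟨m, hm, h3 ((Dvd.intro_left _ rfl).trans h2), h4 ((Dvd.intro _ rfl).trans h2)⟩
  -- at most one further degree
  set Six : Finset ℕ := {1, q ^ 2 - q + 1, q * (q ^ 2 - q + 1), q ^ 3, q ^ 3 + 1, a} with hSix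
  have hcardSix : Six.card = 6 := U3Arith.six_card hq ha1 haq
  have hmemSix : ∀ d ∈ Six, d ∈ charDegrees (S σ) := by
    intro d hd
    rw [hSix] at hd
    simp only [Finset.mem_insert, Finset.mem_singleton] at hd
    rcases hd with rfl | rfl | rfl | rfl | rfl | rfl
    exacts [h1, hN, hqN, hst, hps, ha]
  have huniq : ∀ b b', b ∈ charDegrees (S σ) → b' ∈ charDegrees (S σ) → b ∉ Six → b' ∉ Six →
      b = b' := by
    intro b b' hb hb' hbS hbS'
    by_contra hne
    apply hcon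
    refine eight_of_finset (insert b (insert b' Six)) ?_ ?_
    · rw [Finset.card_insert_of_notMem, Finset.card_insert_of_notMem hbS', hcardSix]
      rw [Finset.mem_insert, not_or]
      exact ⟨hne, hbS⟩
    · intro d hd
      rw [Finset.mem_insert, Finset.mem_insert] at hd
      rcases hd with rfl | rfl | hd
      exacts [hb, hb', hmemSix d hd]
  -- the sums
  obtain ⟨θ, hθ1, hθX, hθ⟩ := exists_thetaP (σ := σ) hF hs
  obtain ⟨τ, hτ1, hτ2⟩ := exists_tau2 σ
  have hT := card_TP (σ := σ) hF hs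
  obtain ⟨n, k', c, hn, hk, hc, hS1, hS2⟩ := cusp_sums (fus (σ := σ) hF hq hs) θ hθ1 hθX hθ hT τ hτ2
    (by
      rw [hT, card_units_eq hF]
      have : q ^ 2 = (q + 1) * (q - 1) + 1 := by
        obtain ⟨j, rfl⟩ : ∃ j, q = j + 1 := ⟨q - 1, by omega⟩
        rw [show j + 1 - 1 = j by omega]
        ring
      omega) (card_inv hF hs hτ1 hτ2) (card_lin hF hq hs hτ1 hτ2)
  have he : ∀ ψ : IrrCharacter (PG σ), ∃ e : ℕ, k' ψ = 0 →
      (n ψ : ℤ) = (q ^ 2 - 1) * c ψ + q * (q - 1) * e := by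
    intro ψ
    by_cases h0 : k' ψ = 0
    · have h2 := hk ψ
      rw [h0, Nat.cast_zero] at h2
      obtain ⟨e, he⟩ := degree_cusp hF hq hs ψ.2 hθ1 hθX (hn ψ) h2 (hc ψ)
      exact ⟨e, fun _ => he⟩
    · exact ⟨0, fun h => absurd h h0⟩
  choose e he using he
  have hmt : ∀ ψ : IrrCharacter (PG σ), ∃ m ∈ charDegrees (S σ), ∃ t, t ∣ (S σ).index ∧
      m * t = n ψ := fun ψ => exists_res_degree ψ.2 (hn ψ)
  choose m hm t ht hmt using hmt
  have hterm : ∀ ψ : IrrCharacter (PG σ), k' ψ = 0 → 2 * ((c ψ : ℤ) * c ψ) ≤ q ^ 2 - q := by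
    intro i hi
    rw [← hS1]
    have := Finset.single_le_sum (f := fun i => if k' i = 0 then (c i : ℤ) * c i else 0)
      (fun j _ => by
        show (0 : ℤ) ≤ if k' j = 0 then (c j : ℤ) * c j else 0
        split_ifs
        · positivity
        · exact le_refl _) (Finset.mem_univ i)
    simp only [if_pos hi] at this
    linarith
  have hqz : (3 : ℤ) ≤ q := by exact_mod_cast hq
  have key : ∀ ψ : IrrCharacter (PG σ), k' ψ = 0 → c ψ ≠ 0 → m ψ ∉ Six := by
    intro ψ h0 hc0 hmem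
    have h2 := he ψ h0
    have h3 : q - 1 ∣ n ψ := by
      have h4 : ((q - 1 : ℕ) : ℤ) ∣ n ψ := by
        rw [h2]
        push_cast [show 1 ≤ q by omega]
        exact ⟨(q + 1) * c ψ + q * e ψ, by ring⟩
      exact_mod_cast h4
    have h5 := (hdivt (ht ψ) (hmt ψ)).1 h3
    obtain ⟨n1, n2, n3, n4⟩ := U3Arith.not_four hq h5
    rw [hSix] at hmem
    simp only [Finset.mem_insert, Finset.mem_singleton] at hmem
    rcases hmem with h | h | h | h | h | h
    · exact n1 h
    · exact n2 h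
    · exact n3 h
    · exact n4 h
    · -- `q³ + 1`
      rw [h] at h5
      have h6 := U3Arith.eq_three hq h5
      have h7 := ht ψ
      rcases hidx with h8 | ⟨-, h8⟩
      · rw [h8] at h7
        have h9 := hmt ψ
        rw [Nat.dvd_one.1 h7, mul_one, h] at h9
        have h10 := hterm ψ h0
        rw [← h9] at h2
        rw [h6] at h2 h10
        push_cast at h2 h10
        have h11 : c ψ = 1 := by
          by_contra hne
          have : (2 : ℤ) ≤ c ψ := by
            have : 2 ≤ c ψ := by omega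
            exact_mod_cast this
          nlinarith
        rw [h11] at h2
        push_cast at h2
        omega
      · rw [h6] at h8
        omega
    · -- `a`
      have h6 : q ∣ n ψ := by
        rw [← hmt ψ, h]
        exact haq.mul_right _
      have h7 : (q : ℤ) ∣ c ψ := by
        have h8 : (q : ℤ) ∣ n ψ := by exact_mod_cast h6
        obtain ⟨z, hz⟩ := h8
        refine ⟨q * c ψ + (q - 1) * e ψ - z, ?_⟩
        rw [hz] at h2
        linear_combination h2
      have h8 : q ∣ c ψ := by exact_mod_cast h7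
      have h9 : q ≤ c ψ := Nat.le_of_dvd (Nat.pos_of_ne_zero hc0) h8
      have h10 : (q : ℤ) ≤ c ψ := by exact_mod_cast h9
      have h11 := hterm ψ h0
      nlinarith
  obtain ⟨ψ0, h0, hc0⟩ : ∃ ψ : IrrCharacter (PG σ), k' ψ = 0 ∧ c ψ ≠ 0 := by
    by_contra hno
    push Not at hno
    have h4 : ∑ ψ : IrrCharacter (PG σ), (if k' ψ = 0 then (c ψ : ℤ) * c ψ else 0) = 0 := by
      refine Finset.sum_eq_zero fun i _ => ?_
      split_ifs with hi
      · rw [hno i hi]
        simp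
      · rfl
    rw [h4] at hS1
    nlinarith
  have hb : ∀ ψ : IrrCharacter (PG σ), k' ψ = 0 → c ψ ≠ 0 → n ψ = m ψ0 * t ψ := by
    intro ψ h hc'
    rw [← hmt ψ, huniq (m ψ) (m ψ0) (hm ψ) (hm ψ0) (key ψ h hc') (key ψ0 h0 hc0)]
  have hbdvd : m ψ0 ∣ (q ^ 3 + 1) * (q ^ 3 * (q ^ 2 - 1)) :=
    (Cfsg.Agent.H681.DegBasic.dvd_card (hm ψ0)).trans (card_S hF hs)
  rcases hidx with hi | ⟨hi, hi3⟩
  · refine U3Arith.arith_one c n e (fun ψ => k' ψ = 0) hq (b := m ψ0) ?_ he hS1 ?_ hbdvd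
    · intro ψ h hc'
      have h2 := ht ψ
      rw [hi] at h2
      rw [hb ψ h hc', Nat.dvd_one.1 h2, mul_one]
    · rw [hS2, hi]
      push_cast
      ring
  · refine U3Arith.arith_three c n e t (fun ψ => k' ψ = 0) hq hi3 hp hpk (b := m ψ0) hb ?_ he hS1 ?_
      hbdvd
    · intro ψ
      have h2 := ht ψ
      rw [hi] at h2
      exact (Nat.dvd_prime Nat.prime_three).1 h2
    · rw [hS2, hi]
      push_cast
      ring

end Cfsg.Agent.H664.R1.U3

namespace Cfsg.Agent.H664.Eight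

open Cfsg Cfsg.Agent.LieClassical.HermBasic

universe u

/-- **Eight character degrees of `PSU(3,q)`**, `q ≥ 3`. -/
theorem eight_u3 {S : Type u} [Group S] {F : Type*} [Field F] [Fintype F] {q : ℕ}
    (hF : Fintype.card F = q ^ 2) (hq : 3 ≤ q) (e : S ≃* Cfsg.PSU 3 F q) : Eight S := by
  obtain ⟨σ, hσ, hs, ⟨e'⟩⟩ := R1.U3.exists_iso hF
  exact Eight.of_equiv (e.trans e') (R1.U3.eight_S hF hq hs)

end Cfsg.Agent.H664.Eight
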